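import Groth.Agent.H06EGA11b.MinPrimeFree

/-!
Stratification of the base into pieces over which a flat finitely presented module is free
(EGA IV 11.2.9 / 6.9.2).
-/

set_option autoImplicit false
set_option linter.style.haveILetI false
set_option backward.isDefEq.respectTransparency false

universe u

open TensorProduct

namespace Groth.Agent.H06EGA11b.FreeStrat

open H06EGA11 MinPrimeFree

attribute [local instance] Algebra.TensorProduct.rightAlgebra

variable {R₀ P₀ : Type u} [CommRing R₀] [CommRing P₀] [Algebra R₀ P₀] [Algebra.FiniteType R₀ P₀]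
  (M₀ : Type u) [AddCommGroup M₀] [Module R₀ M₀] [Module P₀ M₀] [IsScalarTower R₀ P₀ M₀]
  [Module.Finite P₀ M₀]

/-- Flat base changes killing `I` and inverting `f` are free. -/
def IsFreeAt (I : Ideal R₀) (f : R₀) : Prop :=
  ∀ (T : Type u) [CommRing T] [Algebra R₀ T], I.map (algebraMap R₀ T) = ⊥ →
    IsUnit (algebraMap R₀ T f) → Module.Flat T (T ⊗[R₀] M₀) → Module.Free T (T ⊗[R₀] M₀)

variable (P₀) in
include P₀ in
set_option maxHeartbeats 1000000 in
theorem exists_isFreeAt [IsNoetherianRing R₀] (I : Ideal R₀) (hI : I ≠ ⊤) :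
    ∃ f ∉ I, IsFreeAt M₀ I f := by
  classical
  let K := I.radical
  let R := R₀ ⧸ K
  haveI : IsReduced R := (Ideal.isRadical_iff_quotient_reduced K).mp (Ideal.radical_isRadical I)
  haveI : Nontrivial R := Ideal.Quotient.nontrivial_iff.mpr (by rwa [ne_eq, Ideal.radical_eq_top])
  haveI : Algebra.FiniteType R (P₀ ⊗[R₀] R) :=
    Algebra.FiniteType.equiv inferInstance (Algebra.TensorProduct.commRight R₀ R P₀)
  obtain ⟨fb, hfb, -, hfree⟩ := H7Flat.exists_free_baseChange (R := R) (P₀ ⊗[R₀] R)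
    (BC R₀ P₀ M₀ R) 1 one_ne_zero
  obtain ⟨f, rfl⟩ := Ideal.Quotient.mk_surjective fb
  refine ⟨f, fun h => hfb (Ideal.Quotient.eq_zero_iff_mem.mpr (Ideal.le_radical h)), ?_⟩
  intro T _ _ hIT hu hflat
  let Rf := Localization.Away (Ideal.Quotient.mk K f)
  haveI : Module.Free Rf (Rf ⊗[R] (R ⊗[R₀] M₀)) :=
    haveI := hfree (Ideal.Quotient.mk K f) dvd_rfl
    Module.Free.of_equiv (TensorProduct.AlgebraTensorModule.congr (LinearEquiv.refl Rf Rf)
      (isBaseChange_toBC (R₀ := R₀) (B₀ := P₀) (M₀ := M₀) R).equiv.symm)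
  let J : Ideal T := K.map (algebraMap R₀ T)
  have hJ : IsNilpotent J := by
    obtain ⟨k, hk⟩ := I.exists_radical_pow_le_of_fg (IsNoetherian.noetherian _)
    refine ⟨k, ?_⟩
    rw [← Ideal.map_pow, Submodule.zero_eq_bot, eq_bot_iff, ← hIT]
    exact Ideal.map_mono hk
  let g : R →+* T ⧸ J := Ideal.Quotient.lift K (algebraMap R₀ (T ⧸ J)) fun r hr => by
    rw [IsScalarTower.algebraMap_apply R₀ T (T ⧸ J)]
    exact Ideal.Quotient.eq_zero_iff_mem.mpr (Ideal.mem_map_of_mem _ hr)
  letI : Algebra R (T ⧸ J) := g.toAlgebra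
  haveI : IsScalarTower R₀ R (T ⧸ J) := IsScalarTower.of_algebraMap_eq fun r => rfl
  have hgu : IsUnit (g (Ideal.Quotient.mk K f)) := by
    change IsUnit (algebraMap R₀ (T ⧸ J) f)
    rw [IsScalarTower.algebraMap_apply R₀ T (T ⧸ J)]
    exact hu.map _
  letI : Algebra Rf (T ⧸ J) :=
    (IsLocalization.Away.lift (S := Rf) (Ideal.Quotient.mk K f) hgu).toAlgebra
  haveI : IsScalarTower R Rf (T ⧸ J) := IsScalarTower.of_algebraMap_eq fun a =>
    (IsLocalization.Away.lift_eq (S := Rf) (Ideal.Quotient.mk K f) hgu a).symm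
  haveI : Module.Free (T ⧸ J) ((T ⧸ J) ⊗[T] (T ⊗[R₀] M₀)) :=
    haveI : Module.Free (T ⧸ J) ((T ⧸ J) ⊗[Rf] (Rf ⊗[R] (R ⊗[R₀] M₀))) := inferInstance
    Module.Free.of_equiv
      ((TensorProduct.AlgebraTensorModule.cancelBaseChange R Rf (T ⧸ J) (T ⧸ J) (R ⊗[R₀] M₀)).trans
        ((TensorProduct.AlgebraTensorModule.cancelBaseChange R₀ R (T ⧸ J) (T ⧸ J) M₀).trans
          (TensorProduct.AlgebraTensorModule.cancelBaseChange R₀ T (T ⧸ J) (T ⧸ J) M₀).symm))
  exact free_of_nilpotent hJ

variable (P₀) in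
include P₀ in
theorem exists_list [IsNoetherianRing R₀] (I : Ideal R₀) :
    ∃ l : List R₀, I ⊔ Ideal.span {a | a ∈ l} = ⊤ ∧
      ∀ (i : ℕ) (hi : i < l.length), IsFreeAt M₀ (I ⊔ Ideal.span {a | a ∈ l.take i}) l[i] := by
  induction I using WellFoundedGT.induction with
  | _ I ih =>
    by_cases hI : I = ⊤
    · exact ⟨[], by simp [hI], fun i hi => absurd hi (by simp)⟩
    obtain ⟨f, hf, hfree⟩ := exists_isFreeAt P₀ M₀ I hI
    obtain ⟨l, hl, hl'⟩ := ih (I ⊔ Ideal.span {f})
      (lt_of_le_of_ne le_sup_left fun h => hf (h ▸ Ideal.mem_sup_right (Ideal.mem_span_singleton_self f)))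
    have key : ∀ l' : List R₀,
        I ⊔ Ideal.span {a | a ∈ f :: l'} = (I ⊔ Ideal.span {f}) ⊔ Ideal.span {a | a ∈ l'} := fun l' => by
      rw [sup_assoc, ← Ideal.span_union]
      congr 2
      ext a
      simp
    refine ⟨f :: l, (key l).trans hl, fun i hi => ?_⟩
    cases i with
    | zero => simpa using hfree
    | succ i =>
      rw [List.take_succ_cons, key]
      exact hl' i _

set_option maxHeartbeats 1000000 in
theorem strat_of_model {A M : Type u} [CommRing A] [AddCommGroup M] [Module A M] [Module.Flat A M]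
    [IsNoetherianRing R₀] [Algebra R₀ A] (e : BC R₀ P₀ M₀ A ≃ₗ[A] M) :
    ∃ l : List A, Ideal.span {a | a ∈ l} = ⊤ ∧
      ∀ (i : ℕ) (hi : i < l.length),
        letI J : Ideal (Localization.Away l[i]) :=
          (Ideal.span {a | a ∈ l.take i}).map (algebraMap A (Localization.Away l[i]))
        Module.Free (Localization.Away l[i] ⧸ J) ((Localization.Away l[i] ⧸ J) ⊗[A] M) := by
  obtain ⟨l, hl, hl'⟩ := exists_list P₀ M₀ (⊥ : Ideal R₀)
  let eA : A ⊗[R₀] M₀ ≃ₗ[A] M := ((isBaseChange_toBC (R₀ := R₀) (B₀ := P₀) (M₀ := M₀) A).equiv).trans e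
  have hmap : ∀ l : List R₀, (Ideal.span {a | a ∈ l}).map (algebraMap R₀ A) =
      Ideal.span {a | a ∈ l.map (algebraMap R₀ A)} := fun l => by
    rw [Ideal.map_span]
    congr 1
    ext a
    simp
  refine ⟨l.map (algebraMap R₀ A), ?_, fun i hi => ?_⟩
  · rw [bot_sup_eq] at hl
    rw [← hmap, hl, Ideal.map_top]
  let J : Ideal (Localization.Away (l.map (algebraMap R₀ A))[i]) :=
    (Ideal.span {a | a ∈ (l.map (algebraMap R₀ A)).take i}).map (algebraMap A _)
  have hi' : i < l.length := by simpa using hi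
  haveI : Module.Flat (Localization.Away (l.map (algebraMap R₀ A))[i] ⧸ J)
      ((Localization.Away (l.map (algebraMap R₀ A))[i] ⧸ J) ⊗[A] M) := inferInstance
  let T := Localization.Away (l.map (algebraMap R₀ A))[i] ⧸ J
  let eT : T ⊗[R₀] M₀ ≃ₗ[T] T ⊗[A] M :=
    (TensorProduct.AlgebraTensorModule.cancelBaseChange R₀ A T T M₀).symm.trans
      (TensorProduct.AlgebraTensorModule.congr (LinearEquiv.refl T T) eA)
  haveI : Module.Free T (T ⊗[R₀] M₀) := by
    refine hl' i hi' T ?_ ?_ (Module.Flat.of_linearEquiv eT)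
    · rw [bot_sup_eq, IsScalarTower.algebraMap_eq R₀ A T, ← Ideal.map_map, hmap, List.map_take,
        IsScalarTower.algebraMap_eq A (Localization.Away (l.map (algebraMap R₀ A))[i]) T, ← Ideal.map_map,
        eq_bot_iff]
      exact (Ideal.map_quotient_self J).le
    · rw [IsScalarTower.algebraMap_apply R₀ A T,
        show algebraMap R₀ A l[i] = (l.map (algebraMap R₀ A))[i] by simp,
        IsScalarTower.algebraMap_apply A (Localization.Away (l.map (algebraMap R₀ A))[i]) T]
      exact (IsLocalization.Away.algebraMap_isUnit _).map _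
  exact Module.Free.of_equiv eT

set_option maxHeartbeats 1000000 in
set_option backward.isDefEq.respectTransparency true in
/-- Stratification of the base on whose pieces a flat finitely presented module is free. -/
theorem exists_strat {A B M : Type u} [CommRing A] [CommRing B] [Algebra A B]
    [Algebra.FinitePresentation A B] [AddCommGroup M] [Module B M] [Module A M] [IsScalarTower A B M]
    [Module.FinitePresentation B M] [Module.Flat A M] :
    ∃ l : List A, Ideal.span {a | a ∈ l} = ⊤ ∧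
      ∀ (i : ℕ) (hi : i < l.length),
        letI J : Ideal (Localization.Away l[i]) :=
          (Ideal.span {a | a ∈ l.take i}).map (algebraMap A (Localization.Away l[i]))
        Module.Free (Localization.Away l[i] ⧸ J) ((Localization.Away l[i] ⧸ J) ⊗[A] M) := by
  classical
  obtain ⟨n, π, hπ, hker⟩ := Algebra.FinitePresentation.out (R := A) (A := B)
  letI : Algebra (MvPolynomial (Fin n) A) B := π.toRingHom.toAlgebra
  letI : Module (MvPolynomial (Fin n) A) M := Module.compHom M π.toRingHom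
  haveI : IsScalarTower (MvPolynomial (Fin n) A) B M := IsScalarTower.of_algebraMap_smul fun _ _ => rfl
  haveI : IsScalarTower A (MvPolynomial (Fin n) A) M := IsScalarTower.of_algebraMap_smul fun c m => by
    change π (algebraMap A _ c) • m = c • m
    rw [AlgHom.commutes, algebraMap_smul]
  haveI : Module.FinitePresentation (MvPolynomial (Fin n) A) B :=
    Module.finitePresentation_of_surjective (Algebra.linearMap (MvPolynomial (Fin n) A) B) hπ hker
  haveI : Module.FinitePresentation (MvPolynomial (Fin n) A) M :=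
    Module.FinitePresentation.trans (MvPolynomial (Fin n) A) M B
  refine (exists_model (A := A) (n := n) M).elim fun R₀ h => h.elim fun hR₀ h => h.elim fun M₀ h =>
    h.elim fun i₁ h => h.elim fun i₂ h => h.elim fun i₃ h => h.elim fun i₄ h => h.elim fun i₅ h =>
    h.elim fun σ h => h.elim fun e _ => ?_
  haveI : Algebra.FiniteType ℤ R₀ := R₀.fg_iff_finiteType.mp hR₀
  haveI : IsNoetherianRing R₀ := Algebra.FiniteType.isNoetherianRing ℤ R₀
  exact strat_of_model (A := A) (R₀ := R₀) (P₀ := MvPolynomial (Fin n) R₀) M₀ e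

end Groth.Agent.H06EGA11b.FreeStrat
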