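import Mathlib
import Groth.Agent.H06EGA11b.UnivFlat
import Groth.Agent.H06EGA11.Model
import Groth.Agent.H06EGA11.Colimit
import Groth.Agent.H7Flat.GenericFreeness

/-!
Generic flattening over a base with irreducible spectrum (EGA IV 11.5 / 8.9.4), affine case.
-/

set_option autoImplicit false
set_option linter.style.haveILetI false
set_option backward.isDefEq.respectTransparency false

universe u

open TensorProduct

namespace Groth.Agent.H06EGA11b.GenFlatten

open H06EGA11

attribute [local instance] Algebra.TensorProduct.rightAlgebra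

theorem nilradical_isPrime (A : Type u) [CommRing A] [IrreducibleSpace (PrimeSpectrum A)] :
    (nilradical A).IsPrime := by
  have h : IsIrreducible (PrimeSpectrum.zeroLocus ((⊥ : Ideal A) : Set A)) := by
    rw [show ((⊥ : Ideal A) : Set A) = {0} by simp, PrimeSpectrum.zeroLocus_singleton_zero]
    exact IrreducibleSpace.isIrreducible_univ _
  exact (PrimeSpectrum.isIrreducible_zeroLocus_iff _).mp h

set_option maxHeartbeats 1000000 in
/-- Flattening after inverting one element of a Noetherian model. -/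
theorem flattening_of_model {A M : Type u} [CommRing A] [IrreducibleSpace (PrimeSpectrum A)]
    [AddCommGroup M] [Module A M] {R P N : Type u} [CommRing R] [IsNoetherianRing R] [Algebra R A]
    [CommRing P] [Algebra R P] [Algebra.FiniteType R P] [AddCommGroup N] [Module R N] [Module P N]
    [IsScalarTower R P N] [Module.Finite P N] (e : BC R P N A ≃ₗ[A] M) :
    ∃ (h : A) (c : Ideal A), ¬ IsNilpotent h ∧ c.FG ∧ c ≤ nilradical A ∧
      ∀ (T : Type u) [CommRing T] [Algebra A T], IsUnit (algebraMap A T h) →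
        (Module.Flat T (T ⊗[A] M) ↔ c.map (algebraMap A T) = ⊥) := by
  classical
  haveI := nilradical_isPrime A
  let eA : A ⊗[R] N ≃ₗ[A] M := ((isBaseChange_toBC (R₀ := R) (B₀ := P) (M₀ := N) A).equiv).trans e
  let p₀ : Ideal R := (nilradical A).comap (algebraMap R A)
  haveI : p₀.IsPrime := Ideal.IsPrime.comap _
  let R' := R ⧸ p₀
  haveI : Algebra.FiniteType R' (P ⊗[R] R') :=
    Algebra.FiniteType.equiv inferInstance (Algebra.TensorProduct.commRight R R' P)
  obtain ⟨fb, hfb, -, hfree⟩ := H7Flat.exists_free_baseChange (R := R') (P ⊗[R] R') (BC R P N R') 1 one_ne_zero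
  obtain ⟨f, rfl⟩ := Ideal.Quotient.mk_surjective fb
  have hf : f ∉ p₀ := fun h => hfb (Ideal.Quotient.eq_zero_iff_mem.mpr h)
  let S := Localization.Away f
  let I : Ideal S := p₀.map (algebraMap R S)
  let Rf := Localization.Away (Ideal.Quotient.mk p₀ f)
  let g : R' →+* S ⧸ I := Ideal.Quotient.lift p₀ (algebraMap R (S ⧸ I)) fun r hr => by
    rw [IsScalarTower.algebraMap_apply R S (S ⧸ I)]
    exact Ideal.Quotient.eq_zero_iff_mem.mpr (Ideal.mem_map_of_mem _ hr)
  have hgu : IsUnit (g (Ideal.Quotient.mk p₀ f)) := by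
    change IsUnit (algebraMap R (S ⧸ I) f)
    rw [IsScalarTower.algebraMap_apply R S (S ⧸ I)]
    exact (IsLocalization.Away.algebraMap_isUnit f).map _
  letI : Algebra Rf (S ⧸ I) :=
    (IsLocalization.Away.lift (S := Rf) (Ideal.Quotient.mk p₀ f) hgu).toAlgebra
  haveI : IsScalarTower R Rf (S ⧸ I) := IsScalarTower.of_algebraMap_eq fun r => by
    rw [IsScalarTower.algebraMap_apply R R' Rf]
    refine Eq.trans ?_ (IsLocalization.Away.lift_eq (S := Rf) (Ideal.Quotient.mk p₀ f) hgu (Ideal.Quotient.mk p₀ r)).symm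
    rfl
  haveI : Module.Free Rf (Rf ⊗[R] N) :=
    haveI := hfree (Ideal.Quotient.mk p₀ f) dvd_rfl
    Module.Free.of_equiv ((AlgebraTensorModule.congr (LinearEquiv.refl Rf Rf)
      (isBaseChange_toBC (R₀ := R) (B₀ := P) (M₀ := N) R').equiv.symm).trans
        (AlgebraTensorModule.cancelBaseChange R R' Rf Rf N))
  haveI : Module.Projective (S ⧸ I) ((S ⧸ I) ⊗[S] (S ⊗[R] N)) :=
    Module.Projective.of_equiv ((AlgebraTensorModule.cancelBaseChange R Rf (S ⧸ I) (S ⧸ I) N).trans
      (AlgebraTensorModule.cancelBaseChange R S (S ⧸ I) (S ⧸ I) N).symm)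
  obtain ⟨m, hm⟩ : ∃ m, (p₀ ^ (m + 1)).map (algebraMap R A) = ⊥ := by
    have hnil : IsNilpotent (p₀.map (algebraMap R A)) :=
      (Ideal.FG.isNilpotent_iff_le_nilradical (Ideal.FG.map (I := p₀) (IsNoetherian.noetherian p₀) _)).mpr
        Ideal.map_comap_le
    obtain ⟨m, hm⟩ := hnil
    refine ⟨m, ?_⟩
    rw [Ideal.map_pow, pow_succ, hm, zero_mul]
    rfl
  obtain ⟨C, hCle, hC⟩ := UnivFlat.exists_flattening_ideal_pow I (m + 1) (S ⊗[R] N)
  have hCI : C ≤ I := by
    have h0 : (I ^ (m + 1)).map (algebraMap S (S ⧸ I)) = ⊥ := by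
      rw [eq_bot_iff, ← Ideal.map_quotient_self I]
      exact Ideal.map_mono (Ideal.pow_le_self (Nat.succ_ne_zero m))
    have := (hC (S ⧸ I) h0).mp inferInstance
    rwa [Ideal.Quotient.algebraMap_eq, Ideal.map_eq_bot_iff_le_ker, Ideal.mk_ker] at this
  let C₀ : Ideal R := C.comap (algebraMap R S)
  have hC₀ : C₀ ≤ p₀ := by
    refine (Ideal.comap_mono hCI).trans (le_of_eq ?_)
    exact IsLocalization.comap_map_of_isPrime_disjoint (Submonoid.powers f) S inferInstance
      (Set.disjoint_left.mpr fun x hx hxp => by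
        obtain ⟨n, rfl⟩ := hx
        exact hf (‹p₀.IsPrime›.mem_of_pow_mem n hxp))
  refine ⟨algebraMap R A f, C₀.map (algebraMap R A), fun hn => hf (mem_nilradical.mpr hn),
    Ideal.FG.map (I := C₀) (IsNoetherian.noetherian C₀) _,
    (Ideal.map_mono hC₀).trans Ideal.map_comap_le, fun T _ _ hu => ?_⟩
  letI : Algebra R T := ((algebraMap A T).comp (algebraMap R A)).toAlgebra
  haveI : IsScalarTower R A T := IsScalarTower.of_algebraMap_eq fun _ => rfl
  letI : Algebra S T := (IsLocalization.Away.lift (S := S) f (g := algebraMap R T) hu).toAlgebra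
  haveI : IsScalarTower R S T := IsScalarTower.of_algebraMap_eq fun r =>
    (IsLocalization.Away.lift_eq (S := S) f (g := algebraMap R T) hu r).symm
  have hT : (I ^ (m + 1)).map (algebraMap S T) = ⊥ := by
    rw [← Ideal.map_pow, Ideal.map_map, ← IsScalarTower.algebraMap_eq R S T, IsScalarTower.algebraMap_eq R A T,
      ← Ideal.map_map, hm, Ideal.map_bot]
  rw [← (flat_tensor_iff eA (A := T)), show (C₀.map (algebraMap R A)).map (algebraMap A T) = C.map (algebraMap S T) by
    rw [Ideal.map_map, ← IsScalarTower.algebraMap_eq R A T, IsScalarTower.algebraMap_eq R S T, ← Ideal.map_map,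
      IsLocalization.map_comap (Submonoid.powers f) S], ← hC T hT]
  exact (Module.Flat.equiv_iff (AlgebraTensorModule.cancelBaseChange R S T T N)).symm

set_option maxHeartbeats 1000000 in
/-- Generic flattening of a finitely presented module. -/
theorem exists_flattening {A B M : Type u} [CommRing A] [IrreducibleSpace (PrimeSpectrum A)] [CommRing B]
    [Algebra A B] [Algebra.FinitePresentation A B] [AddCommGroup M] [Module B M] [Module A M]
    [IsScalarTower A B M] [Module.FinitePresentation B M] :
    ∃ (h : A) (c : Ideal A), ¬ IsNilpotent h ∧ c.FG ∧ c ≤ nilradical A ∧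
      ∀ (T : Type u) [CommRing T] [Algebra A T], IsUnit (algebraMap A T h) →
        (Module.Flat T (T ⊗[A] M) ↔ c.map (algebraMap A T) = ⊥) := by
  classical
  obtain ⟨n, π, hπ, hker⟩ := Algebra.FinitePresentation.out (R := A) (A := B)
  letI : Algebra (MvPolynomial (Fin n) A) B := π.toRingHom.toAlgebra
  letI : Module (MvPolynomial (Fin n) A) M := Module.compHom M π.toRingHom
  haveI : IsScalarTower (MvPolynomial (Fin n) A) B M := IsScalarTower.of_algebraMap_smul fun _ _ => rfl
  haveI : IsScalarTower A (MvPolynomial (Fin n) A) M := IsScalarTower.of_algebraMap_smul fun c m => by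
    change π (algebraMap A _ c) • m = c • m
    rw [AlgHom.commutes, algebraMap_smul]
  haveI : Module.FinitePresentation (MvPolynomial (Fin n) A) B :=
    Module.finitePresentation_of_surjective (Algebra.linearMap (MvPolynomial (Fin n) A) B) hπ hker
  haveI : Module.FinitePresentation (MvPolynomial (Fin n) A) M :=
    Module.FinitePresentation.trans (MvPolynomial (Fin n) A) M B
  set_option backward.isDefEq.respectTransparency true in
  refine (exists_model (A := A) (n := n) M).elim fun R₀ h => h.elim fun hR₀ h => h.elim fun M₀ h =>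
    h.elim fun i₁ h => h.elim fun i₂ h => h.elim fun i₃ h => h.elim fun i₄ h => h.elim fun i₅ h =>
    h.elim fun σ h => h.elim fun e _ => ?_
  haveI : Algebra.FiniteType ℤ R₀ := R₀.fg_iff_finiteType.mp hR₀
  haveI : IsNoetherianRing R₀ := Algebra.FiniteType.isNoetherianRing ℤ R₀
  exact flattening_of_model (A := A) (R := R₀) (P := MvPolynomial (Fin n) R₀) e

end Groth.Agent.H06EGA11b.GenFlatten
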