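import Mathlib
import Groth.Agent.H8Props.RelFP.PullSections
import Groth.Agent.H8Props.FlatLocus.Sections

/-!
Flatness of a pulled back quasi-coherent module, read on sections over affine charts.
-/

set_option autoImplicit false
set_option linter.style.haveILetI false
set_option backward.isDefEq.respectTransparency false

universe u

open CategoryTheory CategoryTheory.Limits AlgebraicGeometry TensorProduct

namespace Groth.Agent.H06EGA11b.PullFlat

variable {X S X' S' : Scheme.{u}}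

theorem pushout_sections {f : X ⟶ S} {f' : X' ⟶ S'} {g : X' ⟶ X} {h : S' ⟶ S}
    (H : IsPullback g f' f h) {U : X.Opens} (hU : IsAffineOpen U) {V : S.Opens} (hV : IsAffineOpen V)
    (eU : U ≤ f ⁻¹ᵁ V) {W : S'.Opens} (hW : IsAffineOpen W) (eW : W ≤ h ⁻¹ᵁ V) :
    IsAffineOpen (g ⁻¹ᵁ U ⊓ f' ⁻¹ᵁ W) ∧
      IsPushout (f.appLE V U eU) (h.appLE V W eW) (g.appLE U (g ⁻¹ᵁ U ⊓ f' ⁻¹ᵁ W) inf_le_left)
        (f'.appLE W (g ⁻¹ᵁ U ⊓ f' ⁻¹ᵁ W) inf_le_right) := by
  refine ⟨?_, (isIso_pushoutSection_iff H eW eU rfl).mp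
    (isIso_pushoutSection_of_isAffineOpen H eW eU rfl hV hW hU)⟩
  have : IsAffine _ := hV
  have : IsAffine _ := hW
  have : IsAffine _ := hU
  exact .of_isIso (Scheme.Hom.isPullback_resLE H eW eU rfl).isoPullback.hom

set_option maxHeartbeats 1000000 in
/-- Flatness of the inverse image over the new base in terms of the base change of the sections. -/
theorem flat_pullback_iff {f : X ⟶ S} {f' : X' ⟶ S'} {g : X' ⟶ X} {h : S' ⟶ S}
    (H : IsPullback g f' f h) (F : X.Modules) (hF : Coh.IsQCoh F) {U : X.Opens} (hU : IsAffineOpen U)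
    {V : S.Opens} (hV : IsAffineOpen V) (eU : U ≤ f ⁻¹ᵁ V) {W : S'.Opens} (hW : IsAffineOpen W)
    (eW : W ≤ h ⁻¹ᵁ V) :
    letI := (h.appLE V W eW).hom.toAlgebra
    letI := Module.compHom Γ(F, U) (f.appLE V U eU).hom
    (∀ x : (g ⁻¹ᵁ U ⊓ f' ⁻¹ᵁ W : X'.Opens),
        FlatMod.IsFlatOverAt f' ((Scheme.Modules.pullback g).obj F) x.1) ↔
      Module.Flat Γ(S', W) (Γ(S', W) ⊗[Γ(S, V)] Γ(F, U)) := by
  set U' := g ⁻¹ᵁ U ⊓ f' ⁻¹ᵁ W
  obtain ⟨hU', hpo⟩ := pushout_sections H hU hV eU hW eW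
  letI := (h.appLE V W eW).hom.toAlgebra
  letI := Module.compHom Γ(F, U) (f.appLE V U eU).hom
  letI := (f.appLE V U eU).hom.toAlgebra
  haveI : IsScalarTower Γ(S, V) Γ(X, U) Γ(F, U) := .of_algebraMap_smul fun _ _ => rfl
  let F' := (Scheme.Modules.pullback g).obj F
  refine (H8Props.FlatLocus.flat_sections_over_iff f' F' (H29Fitt.isQCoh_pullback g F hF) hW hU' inf_le_right).symm.trans ?_
  letI : Algebra Γ(S', W) Γ(X', U') := (f'.appLE W U' inf_le_right).hom.toAlgebra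
  letI : Algebra Γ(X, U) Γ(X', U') := (g.appLE U U' inf_le_left).hom.toAlgebra
  letI : Algebra Γ(S, V) Γ(X', U') :=
    ((f'.appLE W U' inf_le_right).hom.comp (h.appLE V W eW).hom).toAlgebra
  haveI : IsScalarTower Γ(S, V) Γ(S', W) Γ(X', U') := IsScalarTower.of_algebraMap_eq fun _ => rfl
  haveI : IsScalarTower Γ(S, V) Γ(X, U) Γ(X', U') := IsScalarTower.of_algebraMap_eq fun x =>
    congrArg (fun φ => φ.hom x) hpo.w.symm
  haveI : Algebra.IsPushout Γ(S, V) Γ(S', W) Γ(X, U) Γ(X', U') :=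
    CommRingCat.isPushout_iff_isPushout.mp hpo.flip
  letI := Module.compHom Γ(F', U') (g.appLE U U' inf_le_left).hom
  haveI : IsScalarTower Γ(X, U) Γ(X', U') Γ(F', U') := .of_algebraMap_smul fun _ _ => rfl
  letI := Module.compHom Γ(F', U') (f'.appLE W U' inf_le_right).hom
  haveI : IsScalarTower Γ(S', W) Γ(X', U') Γ(F', U') := .of_algebraMap_smul fun _ _ => rfl
  have hb := H8Props.PullSections.isBaseChange_pullLin g F (W := U) (U := U') inf_le_left hF hU hU'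
  let e1 : Γ(F', U') ≃ₗ[Γ(S', W)] Γ(X', U') ⊗[Γ(X, U)] Γ(F, U) := hb.equiv.symm.restrictScalars _
  let e2 : Γ(X', U') ⊗[Γ(X, U)] Γ(F, U) ≃ₗ[Γ(S', W)] Γ(S', W) ⊗[Γ(S, V)] Γ(F, U) :=
    Algebra.IsPushout.cancelBaseChange Γ(S, V) Γ(S', W) Γ(X, U) Γ(X', U') Γ(F, U)
  exact Module.Flat.equiv_iff (e1.trans e2)

end Groth.Agent.H06EGA11b.PullFlat
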