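import Mathlib
import Groth.Agent.H06EGA11b.GenFlatten
import Groth.Agent.H06EGA11b.PullFlat
import Groth.Agent.H8Props.QCohExtend
import Groth.Agent.H8Props.FinLocFree.Sheaf

/-!
Generic flattening for a finitely presented module on a scheme of finite presentation over an affine base.
-/

set_option autoImplicit false
set_option linter.style.haveILetI false
set_option backward.isDefEq.respectTransparency false

universe u

open CategoryTheory CategoryTheory.Limits AlgebraicGeometry TensorProduct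

namespace Groth.Agent.H06EGA11b.GenFlattenScheme

set_option maxHeartbeats 1000000 in
theorem exists_flattening {X Y : Scheme.{u}} (f : X ⟶ Y) [LocallyOfFinitePresentation f] [QuasiCompact f]
    [IsAffine Y] [IrreducibleSpace (PrimeSpectrum Γ(Y, ⊤))] (F : X.Modules) (hF : Coh.IsQCoh F)
    (hFP : CohB1.IsFP F) :
    ∃ (h : Γ(Y, ⊤)) (c : Ideal Γ(Y, ⊤)), ¬ IsNilpotent h ∧ c.FG ∧ c ≤ nilradical Γ(Y, ⊤) ∧
      ∀ (Y' : Scheme.{u}) [IsAffine Y'] (g : Y' ⟶ Y), IsUnit (g.appTop.hom h) →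
        (FlatMod.IsFlatOver (pullback.snd f g) ((Scheme.Modules.pullback (pullback.fst f g)).obj F) ↔
          c.map g.appTop.hom = ⊥) := by
  classical
  haveI : CompactSpace X := QuasiCompact.compactSpace_of_compactSpace f
  obtain ⟨n, U, hU, hcov⟩ := H8Props.QCohExtend.exists_finite_affine_cover (X := X)
  have hY : IsAffineOpen (⊤ : Y.Opens) := isAffineOpen_top Y
  haveI := GenFlatten.nilradical_isPrime Γ(Y, ⊤)
  have key : ∀ i, ∃ (h : Γ(Y, ⊤)) (c : Ideal Γ(Y, ⊤)), ¬ IsNilpotent h ∧ c.FG ∧ c ≤ nilradical Γ(Y, ⊤) ∧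
      ∀ (T : Type u) [CommRing T] [Algebra Γ(Y, ⊤) T], IsUnit (algebraMap Γ(Y, ⊤) T h) →
        letI := Module.compHom Γ(F, U i) (f.appLE ⊤ (U i) le_top).hom
        (Module.Flat T (T ⊗[Γ(Y, ⊤)] Γ(F, U i)) ↔ c.map (algebraMap Γ(Y, ⊤) T) = ⊥) := by
    intro i
    letI := (f.appLE ⊤ (U i) le_top).hom.toAlgebra
    letI := Module.compHom Γ(F, U i) (f.appLE ⊤ (U i) le_top).hom
    haveI : IsScalarTower Γ(Y, ⊤) Γ(X, U i) Γ(F, U i) := .of_algebraMap_smul fun _ _ => rfl
    haveI : Algebra.FinitePresentation Γ(Y, ⊤) Γ(X, U i) :=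
      HasRingHomProperty.appLE @LocallyOfFinitePresentation f inferInstance ⟨⊤, hY⟩ ⟨U i, hU i⟩ le_top
    haveI : Module.FinitePresentation Γ(X, U i) Γ(F, U i) :=
      H8Props.FinLocFree.finitePresentation_sections F hFP (hU i)
    exact GenFlatten.exists_flattening (A := Γ(Y, ⊤)) (B := Γ(X, U i)) (M := Γ(F, U i))
  choose h c hh hfg hle hc using key
  refine ⟨∏ i, h i, ⨆ i, c i, fun hn => ?_, Submodule.fg_iSup _ hfg, iSup_le hle, fun Y' _ g hu => ?_⟩
  · obtain ⟨i, -, hi⟩ := (Ideal.IsPrime.prod_mem_iff (p := nilradical Γ(Y, ⊤))).mp (mem_nilradical.mpr hn)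
    exact hh i (mem_nilradical.mp hi)
  have hY' : IsAffineOpen (⊤ : Y'.Opens) := isAffineOpen_top Y'
  have H := IsPullback.of_hasPullback f g
  have hg : g.appLE ⊤ ⊤ le_top = g.appTop := (Scheme.Hom.app_eq_appLE g).symm
  rw [map_prod, IsUnit.prod_iff] at hu
  have hi : ∀ i, (∀ x : (pullback.fst f g ⁻¹ᵁ U i ⊓ pullback.snd f g ⁻¹ᵁ ⊤ : (pullback f g).Opens),
      FlatMod.IsFlatOverAt (pullback.snd f g) ((Scheme.Modules.pullback (pullback.fst f g)).obj F) x.1) ↔
      (c i).map g.appTop.hom = ⊥ := fun i => by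
    refine (PullFlat.flat_pullback_iff H F hF (hU i) hY le_top hY' le_top).trans ?_
    letI := (g.appLE ⊤ ⊤ le_top).hom.toAlgebra
    have := hc i Γ(Y', ⊤) (by
      change IsUnit ((g.appLE ⊤ ⊤ le_top).hom (h i))
      rw [hg]
      exact hu i (Finset.mem_univ i))
    refine this.trans (iff_of_eq ?_)
    change ((c i).map (g.appLE ⊤ ⊤ le_top).hom = ⊥) = _
    rw [hg]
  rw [Ideal.map_iSup, iSup_eq_bot]
  refine ⟨fun hflat i => (hi i).mp fun x => hflat x.1, fun hall x => ?_⟩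
  obtain ⟨i, hx⟩ := TopologicalSpace.Opens.mem_iSup.mp
    (hcov.ge (trivial : (pullback.fst f g).base x ∈ (⊤ : X.Opens)))
  exact (hi i).mpr (hall i) ⟨x, hx, trivial⟩

end Groth.Agent.H06EGA11b.GenFlattenScheme
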