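import Mathlib
import Groth.Agent.H06EGA11.Model
import Groth.Agent.H06Flat.NilpotentCover
import Groth.Agent.H7Flat.GenericFreeness
import Groth.Agent.H8Props.FlatLocus.Module

/-!
Generic freeness over a base with a unique minimal prime (EGA IV 11.3.2 / 11.2.8).
-/

set_option autoImplicit false
set_option linter.style.haveILetI false
set_option backward.isDefEq.respectTransparency false

universe u

open TensorProduct

namespace Groth.Agent.H06EGA11b.MinPrimeFree

open H06EGA11

attribute [local instance] Algebra.TensorProduct.rightAlgebra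

/-- Flatness at a minimal prime spreads to a basic open of the base. -/
theorem exists_flat_away {A B M : Type u} [CommRing A] [CommRing B] [Algebra A B]
    [Algebra.FinitePresentation A B] [AddCommGroup M] [Module B M] [Module A M] [IsScalarTower A B M]
    [Module.FinitePresentation B M] (p : Ideal A) [hpp : p.IsPrime] (hp : p ∈ minimalPrimes A)
    [Module.Flat A (LocalizedModule p.primeCompl M)] :
    ∃ t ∉ p, Module.Flat (Localization.Away t) (Localization.Away t ⊗[A] M) := by
  let U : Set (PrimeSpectrum B) :=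
    {q : PrimeSpectrum B | Module.Flat A (LocalizedModule q.asIdeal.primeCompl M)}
  have hU : IsOpen U := H8Props.FlatLocus.isOpen_setOf_flat_localizedModule A B M
  obtain ⟨I, hI⟩ := (PrimeSpectrum.isClosed_iff_zeroLocus_ideal _).mp hU.isClosed_compl
  have hpU : ∀ q : PrimeSpectrum B, q.asIdeal.comap (algebraMap A B) ≤ p → q ∈ U := fun q hq =>
    flat_localizedModule _ fun J x hx => by
      obtain ⟨a, ha, hax⟩ := exists_smul_eq_zero_of_flat p.primeCompl J.subtype Subtype.val_injective x hx
      exact ⟨algebraMap A B a, fun h => ha (hq h), by rwa [algebraMap_smul]⟩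
  have hex : ∃ t ∉ p, algebraMap A B t ∈ I := by
    by_contra! hne
    obtain ⟨q, hq, hIq, hdis⟩ := Ideal.exists_le_prime_disjoint I
      (Submonoid.map (algebraMap A B) p.primeCompl) (Set.disjoint_left.mpr fun b hb hb' => by
        obtain ⟨t, ht, rfl⟩ := hb'
        exact hne t ht hb)
    have hle : q.comap (algebraMap A B) ≤ p := fun a ha => by_contra fun hap =>
      Set.disjoint_left.mp hdis ha ⟨a, hap, rfl⟩
    exact (hI ▸ hIq : (⟨q, hq⟩ : PrimeSpectrum B) ∈ Uᶜ) (hpU _ hle)
  obtain ⟨t, ht, htI⟩ := hex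
  refine ⟨t, ht, ?_⟩
  have hflat : Module.Flat A (LocalizedModule (Submonoid.powers t) M) :=
    flat_localizedModule _ fun J x hx => by
      let K : Ideal B := LinearMap.ker (LinearMap.toSpanSingleton B (M ⊗[A] J) x)
      have htK : algebraMap A B t ∈ K.radical := by
        rw [Ideal.radical_eq_sInf, Submodule.mem_sInf]
        rintro q ⟨hKq, hq⟩
        by_contra htq
        have hmem : (⟨q, hq⟩ : PrimeSpectrum B) ∈ U := by_contra fun h =>
          htq ((hI ▸ h : (⟨q, hq⟩ : PrimeSpectrum B) ∈ PrimeSpectrum.zeroLocus (I : Set B)) htI)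
        haveI : Module.Flat A (LocalizedModule (Ideal.primeCompl q) M) := hmem
        obtain ⟨s, hs, hsx⟩ := exists_smul_eq_zero_of_flat (Ideal.primeCompl q) J.subtype Subtype.val_injective x hx
        exact hs (hKq (LinearMap.mem_ker.mpr hsx))
      obtain ⟨n, hn⟩ := htK
      refine ⟨t ^ n, ⟨n, rfl⟩, ?_⟩
      rw [← map_pow, LinearMap.mem_ker, LinearMap.toSpanSingleton_apply, algebraMap_smul] at hn
      exact hn
  haveI : Module.Flat A (Localization.Away t ⊗[A] M) := Module.Flat.of_linearEquiv
    (((LocalizedModule.equivTensorProduct (Submonoid.powers t) M).restrictScalars A).symm)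
  exact (Module.flat_iff_of_isLocalization (Localization.Away t) (Submonoid.powers t) _).mpr inferInstance

/-- A flat module which is free modulo a nilpotent ideal is free. -/
theorem free_of_nilpotent {R N : Type u} [CommRing R] [AddCommGroup N] [Module R N] {J : Ideal R}
    (hJ : IsNilpotent J) [Module.Flat R N] [Module.Free (R ⧸ J) ((R ⧸ J) ⊗[R] N)] : Module.Free R N := by
  obtain ⟨ι, φ, hφ, hφk⟩ := H06Flat.exists_free_cover hJ (M := N)
  exact Module.Free.of_equiv (LinearEquiv.ofBijective φ
    (H06Flat.injective_of_family hJ φ hφ hφk (fun _ : PUnit.{u+1} => R) (fun a ha => ha PUnit.unit)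
      fun _ => Module.Flat.of_linearEquiv (TensorProduct.lid R N)))

set_option maxHeartbeats 1000000 in
/-- Generic freeness from a Noetherian model. -/
theorem free_away_of_model {A M : Type u} [CommRing A] [AddCommGroup M] [Module A M] (p : Ideal A)
    [hpp : p.IsPrime] (hp : minimalPrimes A = {p}) (t₁ : A) (ht₁ : t₁ ∉ p)
    [Module.Flat (Localization.Away t₁) (Localization.Away t₁ ⊗[A] M)]
    {R₀ P₀ : Type u} [CommRing R₀] [IsNoetherianRing R₀] [Algebra R₀ A] [CommRing P₀] [Algebra R₀ P₀]
    [Algebra.FiniteType R₀ P₀] (M₀ : Type u) [AddCommGroup M₀] [Module R₀ M₀] [Module P₀ M₀]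
    [IsScalarTower R₀ P₀ M₀] [Module.Finite P₀ M₀] (e : BC R₀ P₀ M₀ A ≃ₗ[A] M) :
    ∃ t ∉ p, Module.Free (Localization.Away t) (Localization.Away t ⊗[A] M) := by
  classical
  let eA : A ⊗[R₀] M₀ ≃ₗ[A] M := ((isBaseChange_toBC (R₀ := R₀) (B₀ := P₀) (M₀ := M₀) A).equiv).trans e
  let p₀ : Ideal R₀ := p.comap (algebraMap R₀ A)
  let D := R₀ ⧸ p₀
  obtain ⟨f, hf, hfree⟩ : ∃ f : D, f ≠ 0 ∧
      Module.Free (Localization.Away f) (Localization.Away f ⊗[D] (D ⊗[R₀] M₀)) := by
    letI : Algebra D (P₀ ⊗[R₀] D) := Algebra.TensorProduct.rightAlgebra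
    haveI : Module.Finite (P₀ ⊗[R₀] D) (BC R₀ P₀ M₀ D) := inferInstance
    haveI : Algebra.FiniteType D (P₀ ⊗[R₀] D) := by
      have := (Algebra.TensorProduct.commRight R₀ D P₀).toAlgHom
      exact Algebra.FiniteType.equiv inferInstance (Algebra.TensorProduct.commRight R₀ D P₀)
    obtain ⟨f, hf, hfree⟩ := H7Flat.exists_isAwayFree_of_finiteType (R := D) (P₀ ⊗[R₀] D) (BC R₀ P₀ M₀ D)
    refine ⟨f, hf, ?_⟩
    haveI := hfree.free_baseChange
    exact Module.Free.of_equiv (TensorProduct.AlgebraTensorModule.congr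
      (LinearEquiv.refl (Localization.Away f) (Localization.Away f))
      (isBaseChange_toBC (R₀ := R₀) (B₀ := P₀) (M₀ := M₀) D).equiv.symm)
  obtain ⟨t₀, rfl⟩ := Ideal.Quotient.mk_surjective f
  have ht₀ : algebraMap R₀ A t₀ ∉ p := fun h => hf (Ideal.Quotient.eq_zero_iff_mem.mpr h)
  let t := t₁ * algebraMap R₀ A t₀
  refine ⟨t, fun h => ((hpp.mem_or_mem h).elim ht₁ ht₀), ?_⟩
  let At := Localization.Away t
  have hu : ∀ a, a ∣ t → IsUnit (algebraMap A At a) := fun a ha =>
    isUnit_of_dvd_unit (map_dvd _ ha) (IsLocalization.map_units At ⟨t, Submonoid.mem_powers t⟩)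
  letI : Algebra (Localization.Away t₁) At :=
    (IsLocalization.Away.lift (S := Localization.Away t₁) t₁ (hu t₁ (dvd_mul_right _ _))).toAlgebra
  haveI : IsScalarTower A (Localization.Away t₁) At := IsScalarTower.of_algebraMap_eq fun a =>
    (IsLocalization.Away.lift_eq (S := Localization.Away t₁) t₁ (hu t₁ (dvd_mul_right _ _)) a).symm
  haveI hflat : Module.Flat At (At ⊗[A] M) :=
    Module.Flat.of_linearEquiv
      (TensorProduct.AlgebraTensorModule.cancelBaseChange A (Localization.Away t₁) At At M).symm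
  let J : Ideal At := p₀.map (algebraMap R₀ At)
  have hJ : IsNilpotent J := by
    refine (Ideal.FG.isNilpotent_iff_le_nilradical (Ideal.FG.map (I := p₀) (IsNoetherian.noetherian p₀) (algebraMap R₀ At))).mpr ?_
    refine Ideal.map_le_iff_le_comap.mpr fun r hr => ?_
    have hnil : algebraMap R₀ A r ∈ nilradical A := by
      rw [nilradical_eq_sInf, Submodule.mem_sInf]
      intro q hq
      haveI : Ideal.IsPrime q := hq
      obtain ⟨r', hr', hle⟩ := Ideal.exists_minimalPrimes_le (I := (⊥ : Ideal A)) (J := q) bot_le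
      have : r' = p := by
        have : r' ∈ minimalPrimes A := hr'
        rwa [hp] at this
      exact hle (this ▸ hr)
    rw [Ideal.mem_comap, IsScalarTower.algebraMap_apply R₀ A At]
    exact (mem_nilradical.mp hnil).map _
  let g : D →+* At ⧸ J := Ideal.Quotient.lift p₀ (algebraMap R₀ (At ⧸ J)) fun r hr => by
    rw [IsScalarTower.algebraMap_apply R₀ At (At ⧸ J)]
    exact Ideal.Quotient.eq_zero_iff_mem.mpr (Ideal.mem_map_of_mem _ hr)
  letI : Algebra D (At ⧸ J) := g.toAlgebra
  haveI : IsScalarTower R₀ D (At ⧸ J) := IsScalarTower.of_algebraMap_eq fun r => rfl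
  have hgu : IsUnit (g (Ideal.Quotient.mk p₀ t₀)) := by
    change IsUnit (algebraMap R₀ (At ⧸ J) t₀)
    rw [IsScalarTower.algebraMap_apply R₀ At (At ⧸ J), IsScalarTower.algebraMap_apply R₀ A At]
    exact (hu _ (dvd_mul_left _ _)).map _
  let Df := Localization.Away (Ideal.Quotient.mk p₀ t₀)
  letI : Algebra Df (At ⧸ J) :=
    (IsLocalization.Away.lift (S := Df) (Ideal.Quotient.mk p₀ t₀) hgu).toAlgebra
  haveI : IsScalarTower D Df (At ⧸ J) := IsScalarTower.of_algebraMap_eq fun a =>
    (IsLocalization.Away.lift_eq (S := Df) (Ideal.Quotient.mk p₀ t₀) hgu a).symm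
  haveI : Module.Free (At ⧸ J) ((At ⧸ J) ⊗[At] (At ⊗[A] M)) :=
    haveI : Module.Free (At ⧸ J) ((At ⧸ J) ⊗[Df] (Df ⊗[D] (D ⊗[R₀] M₀))) := inferInstance
    Module.Free.of_equiv
      ((TensorProduct.AlgebraTensorModule.cancelBaseChange D Df (At ⧸ J) (At ⧸ J) (D ⊗[R₀] M₀)).trans
        ((TensorProduct.AlgebraTensorModule.cancelBaseChange R₀ D (At ⧸ J) (At ⧸ J) M₀).trans
          ((TensorProduct.AlgebraTensorModule.cancelBaseChange R₀ A (At ⧸ J) (At ⧸ J) M₀).symm.trans
            ((TensorProduct.AlgebraTensorModule.congr (LinearEquiv.refl (At ⧸ J) (At ⧸ J)) eA).trans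
              (TensorProduct.AlgebraTensorModule.cancelBaseChange A At (At ⧸ J) (At ⧸ J) M).symm))))
  exact @free_of_nilpotent At (At ⊗[A] M) _ _ _ J hJ hflat (by assumption)

set_option maxHeartbeats 1000000 in
set_option backward.isDefEq.respectTransparency true in
/-- Generic freeness over a base with a unique minimal prime. -/
theorem exists_free_away {A B M : Type u} [CommRing A] [CommRing B] [Algebra A B]
    [Algebra.FinitePresentation A B] [AddCommGroup M] [Module B M] [Module A M] [IsScalarTower A B M]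
    [Module.FinitePresentation B M] (p : Ideal A) [hpp : p.IsPrime] (hp : minimalPrimes A = {p})
    [Module.Flat A (LocalizedModule p.primeCompl M)] :
    ∃ t ∉ p, Module.Free (Localization.Away t) (Localization.Away t ⊗[A] M) := by
  classical
  obtain ⟨t₁, ht₁, hflat₁⟩ := exists_flat_away (B := B) (M := M) p (hp ▸ rfl)
  obtain ⟨n, π, hπ, hker⟩ := Algebra.FinitePresentation.out (R := A) (A := B)
  letI : Algebra (MvPolynomial (Fin n) A) B := π.toRingHom.toAlgebra
  letI : Module (MvPolynomial (Fin n) A) M := Module.compHom M π.toRingHom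
  haveI : IsScalarTower (MvPolynomial (Fin n) A) B M := IsScalarTower.of_algebraMap_smul fun _ _ => rfl
  haveI : IsScalarTower A (MvPolynomial (Fin n) A) M := IsScalarTower.of_algebraMap_smul fun c m => by
    change π (algebraMap A _ c) • m = c • m
    rw [AlgHom.commutes, algebraMap_smul]
  haveI : Module.FinitePresentation (MvPolynomial (Fin n) A) B :=
    Module.finitePresentation_of_surjective (Algebra.linearMap (MvPolynomial (Fin n) A) B) hπ hker
  haveI : Module.FinitePresentation (MvPolynomial (Fin n) A) M :=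
    Module.FinitePresentation.trans (MvPolynomial (Fin n) A) M B
  refine (exists_model (A := A) (n := n) M).elim fun R₀ h => h.elim fun hR₀ h => h.elim fun M₀ h =>
    h.elim fun i₁ h => h.elim fun i₂ h => h.elim fun i₃ h => h.elim fun i₄ h => h.elim fun i₅ h =>
    h.elim fun σ h => h.elim fun e _ => ?_
  haveI : Algebra.FiniteType ℤ R₀ := R₀.fg_iff_finiteType.mp hR₀
  haveI : IsNoetherianRing R₀ := Algebra.FiniteType.isNoetherianRing ℤ R₀
  haveI := hflat₁
  exact free_away_of_model (A := A) (R₀ := R₀) (P₀ := MvPolynomial (Fin n) R₀) p hp t₁ ht₁ M₀ e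

end Groth.Agent.H06EGA11b.MinPrimeFree
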