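import Mathlib
import Groth.Agent.H06EGA11b.AdicModel
import Groth.Agent.H8Props.FlatLocus.Module

/-!
Openness of normal flatness along `V(J)` when the graded pieces are flat over the base (EGA IV 11.3.4).
-/

set_option autoImplicit false
set_option linter.style.haveILetI false
set_option backward.isDefEq.respectTransparency false

universe u

open TensorProduct

namespace Groth.Agent.H06EGA11b.NormalFlatOpen

open H06EGA11 AdicModel

attribute [local instance] Algebra.TensorProduct.rightAlgebra

/-- The graded piece. -/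
abbrev Gr {B M : Type u} [CommRing B] [AddCommGroup M] [Module B M] (J : Ideal B) (k : ℕ) : Type u :=
  ↥(J ^ k • (⊤ : Submodule B M)) ⧸ Submodule.comap (J ^ k • (⊤ : Submodule B M)).subtype (J ^ (k + 1) • ⊤)

/-- The localisation of a base change to a quotient algebra. -/
theorem isLocalizedModule_baseChange {B T G : Type u} [CommRing B] [CommRing T] [Algebra B T]
    [AddCommGroup G] [Module B G] (S : Submonoid B) :
    IsLocalizedModule (Algebra.algebraMapSubmonoid T S)
      ((LocalizedModule.mkLinearMap S G).baseChange T) := by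
  haveI : IsLocalizedModule S (((LocalizedModule.mkLinearMap S G).baseChange T).restrictScalars B) := by
    have h : ((LocalizedModule.mkLinearMap S G).baseChange T).restrictScalars B =
        (TensorProduct.comm B (LocalizedModule S G) T).toLinearMap ∘ₗ
          (TensorProduct.AlgebraTensorModule.rTensor B T (LocalizedModule.mkLinearMap S G)) ∘ₗ
          (TensorProduct.comm B T G).toLinearMap := TensorProduct.ext' fun t g => by simp
    rw [h]
    let g := TensorProduct.AlgebraTensorModule.rTensor B T (LocalizedModule.mkLinearMap S G)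
    haveI : IsLocalizedModule S g := inferInstance
    haveI : IsLocalizedModule S (g ∘ₗ (TensorProduct.comm B T G).toLinearMap) :=
      IsLocalizedModule.of_linearEquiv_right S g _
    exact IsLocalizedModule.of_linearEquiv S (g ∘ₗ (TensorProduct.comm B T G).toLinearMap)
      (TensorProduct.comm B (LocalizedModule S G) T)
  exact IsLocalizedModule.of_restrictScalars S _

/-- Localised flatness read on the fibre over the point. -/
theorem flat_localizedModule_iff {T N : Type u} [CommRing T] [AddCommGroup N] [Module T N]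
    (p : Ideal T) [p.IsPrime] :
    Module.Flat T (LocalizedModule p.primeCompl N) ↔
      Module.Flat (Localization.AtPrime p) (Localization.AtPrime p ⊗[T] N) :=
  (Module.flat_iff_of_isLocalization (Localization.AtPrime p) p.primeCompl _).symm.trans
    (Module.Flat.equiv_iff (LocalizedModule.equivTensorProduct p.primeCompl N))

set_option maxHeartbeats 1000000 in
/-- Openness from a uniform bound for a family over a Noetherian algebra. -/
theorem isOpen_setOf_flat_of_bound {R' T : Type u} [CommRing R'] [CommRing T] [Algebra R' T]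
    (G' : ℕ → Type u) [∀ k, AddCommGroup (G' k)] [∀ k, Module R' (G' k)]
    [IsNoetherianRing R'] [∀ k, Module.Finite R' (G' k)] (hG : UnivFlat.GenProj R' G') :
    IsOpen {q : PrimeSpectrum T | ∀ k, Module.Flat T (LocalizedModule q.asIdeal.primeCompl (T ⊗[R'] G' k))} := by
  obtain ⟨k₀, hk₀⟩ := UnivFlat.exists_bound (S := R') G' hG
  have heq : {q : PrimeSpectrum T | ∀ k, Module.Flat T (LocalizedModule q.asIdeal.primeCompl (T ⊗[R'] G' k))} =
      ⋂ j : Fin (k₀ + 1), {q : PrimeSpectrum T |
        Module.Flat T (LocalizedModule q.asIdeal.primeCompl (T ⊗[R'] G' j))} := by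
    ext q
    simp only [Set.mem_iInter, Set.mem_setOf_eq]
    refine ⟨fun h j => h j, fun h k => ?_⟩
    let Tq := Localization.AtPrime q.asIdeal
    rw [flat_localizedModule_iff]
    haveI := hk₀ Tq (fun j hj => by
      haveI := (flat_localizedModule_iff _).mp (h ⟨j, Nat.lt_succ_iff.mpr hj⟩)
      exact Module.Flat.of_linearEquiv (AlgebraTensorModule.cancelBaseChange R' T Tq Tq (G' j)).symm) k
    exact Module.Flat.of_linearEquiv (AlgebraTensorModule.cancelBaseChange R' T Tq Tq (G' k))
  rw [heq]
  exact isOpen_iInter_of_finite fun j =>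
    (haveI := Module.finitePresentation_of_finite R' (G' j)
     H8Props.FlatLocus.isOpen_setOf_flat_localizedModule T T (T ⊗[R'] G' j))

set_option maxHeartbeats 1000000 in
/-- Graded pieces are linear retracts of a finite module over a finite type algebra. -/
theorem genProj_gr {B M : Type u} [CommRing B] [IsNoetherianRing B] [AddCommGroup M] [Module B M]
    [Module.Finite B M] (J : Ideal B) : UnivFlat.GenProj B (fun k => Gr (M := M) J k) := by
  classical
  let F := Rees.powFilt J M
  have hst : F.Stable := J.stableFiltration_stable ⊤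
  haveI : Algebra.FiniteType B ↥(reesAlgebra J) :=
    ⟨(Subalgebra.fg_top _).mpr (reesAlgebra.fg (IsNoetherian.noetherian J))⟩
  letI : Module ↥(reesAlgebra J) (AssocGr.GrMod F) :=
    (AssocGr.GrMod.instModuleRees F : Module ↥(FiltBl.IdealFiltration.adic J).rees (AssocGr.GrMod F))
  haveI : IsScalarTower B ↥(reesAlgebra J) (AssocGr.GrMod F) := AssocGr.GrMod.instIsScalarTowerRees F
  haveI : Module.Finite ↥(reesAlgebra J) (AssocGr.GrMod F) := by
    haveI : Module.Finite ↥(reesAlgebra J) ↥F.submodule :=
      Module.Finite.iff_fg.mpr ((F.submodule_fg_iff_stable fun i => IsNoetherian.noetherian _).mpr hst)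
    exact Module.Finite.of_surjective (M := ↥F.submodule)
      { toFun := fun y => AssocGr.mkGM F (AssocGr.toReesM F y)
        map_add' := fun x y => by rw [map_add, map_add]
        map_smul' := fun a x => by
          rw [RingHom.id_apply]
          exact (AssocGr.smul_mkGM F a (AssocGr.toReesM F x)).symm } (fun z => AssocGr.mkGM_surjective F z)
  choose i r hir using H05EGA4.GrFlat.exists_retract B J M
  let e : ∀ k, Gr (M := M) J k ≃ₗ[B]
      ↥(J ^ k • (⊤ : Submodule B M)) ⧸ (J • (⊤ : Submodule B ↥(J ^ k • (⊤ : Submodule B M)))) := fun k =>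
    Submodule.quotEquivOfEq _ _ ((congrArg (Submodule.comap (J ^ k • (⊤ : Submodule B M)).subtype)
      (show (J ^ (k + 1) • ⊤ : Submodule B M) =
        (J • (⊤ : Submodule B ↥(J ^ k • (⊤ : Submodule B M)))).map (Submodule.subtype _) by
          rw [Submodule.map_smul'', Submodule.map_top, Submodule.range_subtype, ← mul_smul, ← pow_succ'])).trans
      (Submodule.comap_map_eq_of_injective (Submodule.injective_subtype _) _))
  exact UnivFlat.genProj_of_retract (C := ↥(reesAlgebra J)) _
    (fun k => ((i k).restrictScalars B).comp (e k).toLinearMap)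
    (fun k => (e k).symm.toLinearMap.comp ((r k).restrictScalars B))
    (fun k => LinearMap.ext fun x => by
      change (e k).symm (r k (i k (e k x))) = x
      rw [show r k (i k (e k x)) = e k x from LinearMap.congr_fun (hir k) _, LinearEquiv.symm_apply_apply])

set_option maxHeartbeats 2000000 in
/-- The graded pieces of a base change whose truncations are flat. -/
theorem exists_equiv_gr {T₀ A B' B M' M : Type u} [CommRing T₀] [CommRing A] [Algebra T₀ A]
    [CommRing B'] [Algebra T₀ B'] [CommRing B] [Algebra A B] [AddCommGroup M'] [Module B' M']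
    [Module T₀ M'] [IsScalarTower T₀ B' M'] [AddCommGroup M] [Module B M] [Module A M]
    [IsScalarTower A B M] [Module T₀ M] [IsScalarTower T₀ A M] (ψ : B' →+* B)
    (hψ : Submodule.span A (Set.range ψ) = ⊤) (hψ₀ : ∀ t, ψ (algebraMap T₀ B' t) = algebraMap A B (algebraMap T₀ A t))
    (ι : M' →ₗ[T₀] M) (hι : IsBaseChange A ι) (hsemi : ∀ (p : B') (n : M'), ι (p • n) = ψ p • ι n)
    (J' : Ideal B') (hflat : ∀ k, Module.Flat T₀ (M' ⧸ (J' ^ k • ⊤ : Submodule B' M')))
    (T : Type u) [CommRing T] [Algebra B' T] [Algebra B T]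
    (hT : ∀ p : B', algebraMap B' T p = algebraMap B T (ψ p)) (hTs : Function.Surjective (algebraMap B T))
    (J : Ideal B) (hJ : J'.map ψ = J) (hker : RingHom.ker (algebraMap B T) ≤ J) (k : ℕ) :
    Nonempty (T ⊗[B'] Gr (M := M') J' k ≃ₗ[T] T ⊗[B] Gr (M := M) J k) := by
  classical
  letI : Algebra T₀ B := ((algebraMap A B).comp (algebraMap T₀ A)).toAlgebra
  haveI : IsScalarTower T₀ A B := IsScalarTower.of_algebraMap_eq fun _ => rfl
  haveI : IsScalarTower T₀ B M := IsScalarTower.of_algebraMap_smul fun t x => by
    rw [IsScalarTower.algebraMap_apply T₀ A B, algebraMap_smul, algebraMap_smul]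
  let N : Submodule B M := J ^ k • ⊤
  let N1 : Submodule B M := J ^ (k + 1) • ⊤
  let N' : Submodule B' M' := J' ^ k • ⊤
  let N1' : Submodule B' M' := J' ^ (k + 1) • ⊤
  letI : Module B' M := Module.compHom M ψ
  let ι₀ : M' →ₗ[B'] M := { toFun := ι, map_add' := map_add ι, map_smul' := hsemi }
  have hpow : ∀ j (x : M'), x ∈ (J' ^ j • ⊤ : Submodule B' M') → ι x ∈ (J ^ j • ⊤ : Submodule B M) := by
    intro j x hx
    induction hx using Submodule.smul_induction_on' with
    | add x _ y _ h h' => rw [map_add]; exact add_mem h h'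
    | smul r hr y _ =>
      rw [hsemi]
      exact Submodule.smul_mem_smul (by rw [← hJ, ← Ideal.map_pow]; exact Ideal.mem_map_of_mem _ hr) trivial
  letI : Module B' (Gr (M := M) J k) := Module.compHom _ ψ
  let γ₀ : N' →ₗ[B'] Gr (M := M) J k :=
    { toFun := fun x => Submodule.Quotient.mk ⟨ι x.1, hpow k _ x.2⟩
      map_add' := fun x y => by
        rw [← Submodule.Quotient.mk_add]
        exact congrArg Submodule.Quotient.mk (Subtype.ext (map_add ι x.1 y.1))
      map_smul' := fun p x => by
        rw [RingHom.id_apply]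
        change _ = ψ p • (Submodule.Quotient.mk _ : Gr (M := M) J k)
        rw [← Submodule.Quotient.mk_smul]
        exact congrArg Submodule.Quotient.mk (Subtype.ext (hsemi p x.1)) }
  let γ : Gr (M := M') J' k →ₗ[B'] Gr (M := M) J k :=
    Submodule.liftQ _ γ₀ fun x hx => (Submodule.Quotient.mk_eq_zero _).mpr (hpow (k + 1) _ hx)
  let a : Gr (M := M') J' k →ₗ[T₀] M' ⧸ N1' :=
    (Submodule.mapQ _ _ N'.subtype le_rfl).restrictScalars T₀
  have hle : N1' ≤ N' := Submodule.smul_mono_left (Ideal.pow_le_pow_right k.le_succ)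
  let b : (M' ⧸ N1') →ₗ[T₀] M' ⧸ N' := (Submodule.mapQ _ _ LinearMap.id hle).restrictScalars T₀
  have ha : Function.Injective a := (injective_iff_map_eq_zero _).mpr fun z hz => by
    obtain ⟨x, rfl⟩ := Submodule.Quotient.mk_surjective _ z
    change (Submodule.Quotient.mk (x : M') : M' ⧸ N1') = 0 at hz
    rw [Submodule.Quotient.mk_eq_zero] at hz
    exact (Submodule.Quotient.mk_eq_zero _).mpr hz
  have hab : Function.Exact a b := fun z => by
    obtain ⟨x, rfl⟩ := Submodule.Quotient.mk_surjective _ z
    change (Submodule.Quotient.mk x : M' ⧸ N') = 0 ↔ _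
    rw [Submodule.Quotient.mk_eq_zero]
    refine ⟨fun hx => ⟨Submodule.Quotient.mk (⟨x, hx⟩ : N'), rfl⟩, ?_⟩
    rintro ⟨w, hw⟩
    obtain ⟨y, rfl⟩ := Submodule.Quotient.mk_surjective _ w
    have h1 : (y : M') - x ∈ N1' := (Submodule.Quotient.eq N1').mp hw
    simpa using sub_mem y.2 (hle h1)
  have hb : Function.Surjective b := fun z => by
    obtain ⟨x, rfl⟩ := Submodule.Quotient.mk_surjective _ z
    exact ⟨Submodule.Quotient.mk x, rfl⟩
  haveI := hflat k
  have haA : Function.Injective (a.lTensor A) :=
    LinearMap.lTensor_injective_of_exact_of_flat b hb a ha hab A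
  -- the map `A ⊗ Gr' → Gr`
  haveI : IsScalarTower T₀ A (Gr (M := M) J k) := IsScalarTower.of_algebraMap_smul fun t z => by
    rw [← algebraMap_smul B (algebraMap T₀ A t) z, ← IsScalarTower.algebraMap_apply T₀ A B, algebraMap_smul]
  haveI : IsScalarTower T₀ B' (Gr (M := M) J k) := IsScalarTower.of_algebraMap_smul fun t z => by
    change ψ (algebraMap T₀ B' t) • z = t • z
    rw [hψ₀, ← IsScalarTower.algebraMap_apply, algebraMap_smul]
  let γA : A ⊗[T₀] Gr (M := M') J' k →ₗ[A] Gr (M := M) J k := (γ.restrictScalars T₀).liftBaseChange A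
  obtain ⟨e1, he1⟩ : ∃ e1 : A ⊗[T₀] (M' ⧸ N1') →ₗ[A] M ⧸ N1,
      Function.Injective e1 ∧ ∀ (c : A) (x : M'), e1 (c ⊗ₜ Submodule.Quotient.mk x) = c • Submodule.Quotient.mk (ι x) := by
    let v : (M' ⧸ N1') →ₗ[T₀] M ⧸ N1 :=
      { toFun := fun z => Quotient.liftOn' z (fun x => (Submodule.Quotient.mk (ι x) : M ⧸ N1)) fun x y hxy => by
          rw [Submodule.quotientRel_def] at hxy
          refine (Submodule.Quotient.eq N1).mpr ?_
          rw [← map_sub]
          exact hpow (k + 1) _ hxy
        map_add' := fun z w => by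
          obtain ⟨x, rfl⟩ := Submodule.Quotient.mk_surjective _ z
          obtain ⟨y, rfl⟩ := Submodule.Quotient.mk_surjective _ w
          change (Submodule.Quotient.mk (ι (x + y)) : M ⧸ N1) = _
          rw [map_add]
          rfl
        map_smul' := fun c z => by
          obtain ⟨x, rfl⟩ := Submodule.Quotient.mk_surjective _ z
          change (Submodule.Quotient.mk (ι (c • x)) : M ⧸ N1) = _
          rw [map_smul]
          rfl }
    refine ⟨v.liftBaseChange A, ?_, fun c x => LinearMap.liftBaseChange_tmul _ _ _ _⟩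
    obtain ⟨e0⟩ := nonempty_equiv_quotient ψ ι hι hsemi J' (k + 1)
    have hs : Function.Surjective ((N1'.mkQ.restrictScalars T₀).baseChange A) := by
      have := LinearMap.lTensor_surjective A (show Function.Surjective (N1'.mkQ.restrictScalars T₀) from N1'.mkQ_surjective)
      rwa [← LinearMap.baseChange_eq_ltensor] at this
    refine (injective_iff_map_eq_zero _).mpr fun z hz => ?_
    obtain ⟨w, rfl⟩ := hs z
    have hw : v.liftBaseChange A ((N1'.mkQ.restrictScalars T₀).baseChange A w) = Submodule.Quotient.mk (hι.equiv w) := by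
      clear hz
      induction w with
      | zero => simp
      | add u u' hu hu' => simp only [map_add, hu, hu', Submodule.Quotient.mk_add]
      | tmul c x =>
        rw [LinearMap.baseChange_tmul, LinearMap.liftBaseChange_tmul, IsBaseChange.equiv_tmul,
          Submodule.Quotient.mk_smul]
        rfl
    rw [hw, Submodule.Quotient.mk_eq_zero] at hz
    let N1R : Submodule T₀ M' := N1'.restrictScalars T₀
    have hmem : w ∈ LinearMap.range (N1R.subtype.baseChange A) := by
      have h1 : ∀ j ∈ J' ^ (k + 1), ∀ y : M, ψ j • y ∈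
          (LinearMap.range (N1R.subtype.baseChange A)).map hι.equiv.toLinearMap := fun j hj y => by
        obtain ⟨u, rfl⟩ := hι.equiv.surjective y
        induction u with
        | zero => simp
        | add a b ha hb => rw [map_add, smul_add]; exact add_mem ha hb
        | tmul c n =>
          refine ⟨N1R.subtype.baseChange A (c ⊗ₜ
            (⟨j • n, (Submodule.smul_mem_smul hj trivial : j • n ∈ (J' ^ (k + 1) • ⊤ : Submodule B' M'))⟩ : N1R)),
            ⟨_, rfl⟩, ?_⟩
          rw [LinearMap.baseChange_tmul, LinearEquiv.coe_coe, IsBaseChange.equiv_tmul,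
            IsBaseChange.equiv_tmul, smul_comm]
          exact congrArg (c • ·) (hsemi j n)
      have h2 : ∀ y ∈ N1, y ∈ (LinearMap.range (N1R.subtype.baseChange A)).map hι.equiv.toLinearMap := fun y hy => by
        rw [show N1 = (J' ^ (k + 1)).map ψ • ⊤ by simp only [N1, ← hJ, Ideal.map_pow]] at hy
        induction hy using Submodule.smul_induction_on' with
        | add y _ y' _ h h' => exact add_mem h h'
        | smul r hr z _ =>
          induction hr using Submodule.span_induction generalizing z with
          | mem y hy =>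
            obtain ⟨j, hj, rfl⟩ := hy
            exact h1 j hj z
          | zero => rw [zero_smul]; exact zero_mem _
          | add a b _ _ ha hb => rw [add_smul]; exact add_mem (ha z trivial) (hb z trivial)
          | smul c a _ ha => rw [smul_assoc, smul_comm]; exact ha (c • z) trivial
      obtain ⟨w', hw', hww⟩ := h2 _ hz
      rwa [← hι.equiv.injective hww]
    obtain ⟨u, rfl⟩ := hmem
    clear hz hw
    induction u with
    | zero => simp
    | add u u' hu hu' => rw [map_add, map_add, hu, hu', add_zero]
    | tmul c x =>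
      rw [LinearMap.baseChange_tmul, LinearMap.baseChange_tmul,
        show (N1'.mkQ.restrictScalars T₀) (N1R.subtype x) = 0 from (Submodule.Quotient.mk_eq_zero _).mpr x.2,
        TensorProduct.tmul_zero]
  have hinj : Function.Injective γA := (injective_iff_map_eq_zero _).mpr fun z hz => by
    refine (injective_iff_map_eq_zero _).mp haA z (he1.1 ?_)
    rw [map_zero]
    let c0 : Gr (M := M) J k →ₗ[A] M ⧸ N1 :=
      ((Submodule.mapQ _ _ N.subtype le_rfl) : Gr (M := M) J k →ₗ[B] M ⧸ N1).restrictScalars A
    have : e1 (a.lTensor A z) = c0 (γA z) := by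
      clear hz
      induction z with
      | zero => simp
      | add u v hu hv => simp only [map_add, hu, hv]
      | tmul c g =>
        obtain ⟨x, rfl⟩ := Submodule.Quotient.mk_surjective _ g
        rw [LinearMap.lTensor_tmul, show γA (c ⊗ₜ Submodule.Quotient.mk x) =
          c • γ (Submodule.Quotient.mk x) from LinearMap.liftBaseChange_tmul _ _ _ _, map_smul]
        exact he1.2 c x.1
    rw [this, hz, map_zero]
  have hγA : ∀ g : Gr (M := M) J k, g ∈ LinearMap.range γA := fun g => by
    obtain ⟨⟨y, hy⟩, rfl⟩ := Submodule.Quotient.mk_surjective _ g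
    suffices h : ∃ z : A ⊗[T₀] N',
        hι.equiv ((N'.subtype.restrictScalars T₀).baseChange A z) = y by
      obtain ⟨z, hz⟩ := h
      refine ⟨((Submodule.mkQ _ : N' →ₗ[B'] Gr (M := M') J' k).restrictScalars T₀).baseChange A z, ?_⟩
      subst hz
      induction z with
      | zero =>
        rw [map_zero, map_zero]
        symm
        exact (Submodule.Quotient.mk_eq_zero _).mpr (by simp)
      | add u v hu hv =>
        have hmem : ∀ w, hι.equiv ((N'.subtype.restrictScalars T₀).baseChange A w) ∈ N := fun w => by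
          induction w with
          | zero => simp
          | add a b ha hb => simp only [map_add]; exact add_mem ha hb
          | tmul c x =>
            rw [LinearMap.baseChange_tmul, IsBaseChange.equiv_tmul]
            exact Submodule.smul_of_tower_mem _ c (hpow k _ x.2)
        rw [map_add, map_add, hu (hmem u), hv (hmem v), ← Submodule.Quotient.mk_add]
        exact congrArg Submodule.Quotient.mk (Subtype.ext (by simp [map_add]))
      | tmul c x =>
        rw [LinearMap.baseChange_tmul, LinearMap.liftBaseChange_tmul]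
        change c • (Submodule.Quotient.mk _ : Gr (M := M) J k) = _
        rw [← Submodule.Quotient.mk_smul]
        refine congrArg Submodule.Quotient.mk (Subtype.ext ?_)
        simp only [LinearMap.baseChange_tmul, IsBaseChange.equiv_tmul]
        rfl
    rw [show (J ^ k • ⊤ : Submodule B M) = (J' ^ k).map ψ • ⊤ by simp only [← hJ, Ideal.map_pow]] at hy
    have h1 : ∀ j ∈ J' ^ k, ∀ z : M, ∃ w : A ⊗[T₀] N',
        hι.equiv ((N'.subtype.restrictScalars T₀).baseChange A w) = ψ j • z := fun j hj z => by
      obtain ⟨u, rfl⟩ := hι.equiv.surjective z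
      induction u with
      | zero => exact ⟨0, by simp⟩
      | add a b ha hb =>
        obtain ⟨wa, hwa⟩ := ha
        obtain ⟨wb, hwb⟩ := hb
        exact ⟨wa + wb, by simp only [map_add, hwa, hwb, smul_add]⟩
      | tmul c n =>
        refine ⟨c ⊗ₜ (⟨j • n, Submodule.smul_mem_smul hj trivial⟩ : N'), ?_⟩
        rw [LinearMap.baseChange_tmul, IsBaseChange.equiv_tmul, IsBaseChange.equiv_tmul, smul_comm]
        exact congrArg (c • ·) (hsemi j n)
    induction hy using Submodule.smul_induction_on' with
    | add y _ y' _ h h' =>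
      obtain ⟨w, hw⟩ := h
      obtain ⟨w', hw'⟩ := h'
      exact ⟨w + w', by simp only [map_add, hw, hw']⟩
    | smul r hr z _ =>
      induction hr using Submodule.span_induction generalizing z with
      | mem y hy =>
        obtain ⟨j, hj, rfl⟩ := hy
        exact h1 j hj z
      | zero => exact ⟨0, by simp⟩
      | add a b _ _ ha hb =>
        obtain ⟨w, hw⟩ := ha z trivial
        obtain ⟨w', hw'⟩ := hb z trivial
        exact ⟨w + w', by simp only [map_add, hw, hw', add_smul]⟩
      | smul c a _ ha =>
        obtain ⟨w, hw⟩ := ha (c • z) trivial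
        exact ⟨w, by rw [hw, smul_assoc, smul_comm]⟩
  -- pass to `T`
  have hBT : ∀ (p : B') (z : T ⊗[B] Gr (M := M) J k), p • z = ψ p • z := fun p z => by
    rw [← algebraMap_smul T p z, hT, algebraMap_smul]
  let γT : Gr (M := M') J' k →ₗ[B'] T ⊗[B] Gr (M := M) J k :=
    { toFun := fun x => (1 : T) ⊗ₜ γ x
      map_add' := fun x y => by rw [map_add, TensorProduct.tmul_add]
      map_smul' := fun p x => by
        rw [RingHom.id_apply, hBT, map_smul, ← TensorProduct.tmul_smul]
        rfl }
  let Γ : T ⊗[B'] Gr (M := M') J' k →ₗ[T] T ⊗[B] Gr (M := M) J k := γT.liftBaseChange T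
  have hΓ : ∀ (t : T) x, Γ (t ⊗ₜ x) = t • ((1 : T) ⊗ₜ γ x) := fun t x => LinearMap.liftBaseChange_tmul _ _ _ _
  let Φ : A ⊗[T₀] Gr (M := M') J' k →+ T ⊗[B'] Gr (M := M') J' k := liftAddHom
    { toFun := fun c =>
        { toFun := fun x => algebraMap B T (algebraMap A B c) ⊗ₜ x
          map_zero' := TensorProduct.tmul_zero _ _
          map_add' := fun x y => TensorProduct.tmul_add _ _ _ }
      map_zero' := by ext x; simp
      map_add' := fun c d => by
        ext x
        simp [map_add, TensorProduct.add_tmul] }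
    fun t c x => by
      change algebraMap B T (algebraMap A B (t • c)) ⊗ₜ[B'] x =
        algebraMap B T (algebraMap A B c) ⊗ₜ[B'] (t • x)
      rw [← algebraMap_smul B' t x, ← TensorProduct.smul_tmul, Algebra.smul_def, Algebra.smul_def, map_mul,
        map_mul, hT, hψ₀]
  have hΦs : Function.Surjective Φ := fun z => by
    induction z with
    | zero => exact ⟨0, map_zero _⟩
    | add u v hu hv =>
      obtain ⟨a, rfl⟩ := hu
      obtain ⟨b, rfl⟩ := hv
      exact ⟨a + b, map_add _ _ _⟩
    | tmul t x =>
      obtain ⟨bb, rfl⟩ := hTs t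
      have hbb : bb ∈ Submodule.span A (Set.range ψ) := hψ ▸ Submodule.mem_top
      induction hbb using Submodule.span_induction generalizing x with
      | mem y hy =>
        obtain ⟨p, rfl⟩ := hy
        refine ⟨1 ⊗ₜ (p • x), ?_⟩
        rw [show Φ (1 ⊗ₜ (p • x)) = algebraMap B T (algebraMap A B 1) ⊗ₜ (p • x) from rfl, map_one, map_one,
          TensorProduct.tmul_smul, TensorProduct.smul_tmul', Algebra.smul_def, hT, mul_one]
      | zero => exact ⟨0, by rw [map_zero, map_zero, TensorProduct.zero_tmul]⟩
      | add a b _ _ ha hb =>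
        obtain ⟨u, hu⟩ := ha x
        obtain ⟨v, hv⟩ := hb x
        exact ⟨u + v, by rw [map_add, hu, hv, map_add, TensorProduct.add_tmul]⟩
      | smul c a _ ha =>
        obtain ⟨u, hu⟩ := ha x
        refine ⟨c • u, ?_⟩
        have key : ∀ w, Φ (c • w) = algebraMap B T (algebraMap A B c) • Φ w := fun w => by
          induction w with
          | zero => simp
          | add a b ha hb => simp only [smul_add, map_add, ha, hb]
          | tmul d y =>
            change algebraMap B T (algebraMap A B (c * d)) ⊗ₜ y = _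
            rw [map_mul, map_mul, ← smul_eq_mul, ← TensorProduct.smul_tmul']
            rfl
        rw [key, hu, TensorProduct.smul_tmul', smul_eq_mul, ← map_mul, ← Algebra.smul_def]
  have hΓΦ : ∀ z, Γ (Φ z) = (1 : T) ⊗ₜ[B] γA z := fun z => by
    induction z with
    | zero => simp
    | add a b ha hb => simp only [map_add, ha, hb, TensorProduct.tmul_add]
    | tmul c x =>
      rw [show Φ (c ⊗ₜ x) = algebraMap B T (algebraMap A B c) ⊗ₜ x from rfl, hΓ,
        show γA (c ⊗ₜ x) = c • γ x from LinearMap.liftBaseChange_tmul _ _ _ _, algebraMap_smul,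
        ← TensorProduct.tmul_smul, algebraMap_smul]
  have hGbij : Function.Injective (fun g : Gr (M := M) J k => (1 : T) ⊗ₜ[B] g) := by
    intro g g' hgg
    let K : Ideal B := RingHom.ker (algebraMap B T)
    have hKt : ∀ (c : B) (g : Gr (M := M) J k), c ∈ K → c • g = 0 := fun c g hc => by
      obtain ⟨⟨y, hy⟩, rfl⟩ := Submodule.Quotient.mk_surjective _ g
      rw [← Submodule.Quotient.mk_smul]
      refine (Submodule.Quotient.mk_eq_zero _).mpr ?_
      change c • y ∈ (J ^ (k + 1) • ⊤ : Submodule B M)
      rw [pow_succ', mul_smul]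
      exact Submodule.smul_mem_smul (hker hc) hy
    let eT : (B ⧸ K) ≃ₐ[B] T := AlgEquiv.ofBijective (Ideal.Quotient.liftₐ K (Algebra.ofId B T) fun _ h => h)
      ⟨RingHom.lift_injective_of_ker_le_ideal K (fun _ h => h) le_rfl, fun t => by
        obtain ⟨c, rfl⟩ := hTs t
        exact ⟨Ideal.Quotient.mk K c, rfl⟩⟩
    have h0 : eT.symm (1 : T) ⊗ₜ[B] g = eT.symm 1 ⊗ₜ[B] g' := congrArg (eT.symm.toLinearMap.rTensor _) hgg
    rw [map_one] at h0
    have h1 := congrArg (TensorProduct.quotTensorEquivQuotSMul (Gr (M := M) J k) K) h0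
    rw [← map_one (Ideal.Quotient.mk K), TensorProduct.quotTensorEquivQuotSMul_mk_tmul,
      TensorProduct.quotTensorEquivQuotSMul_mk_tmul, one_smul, one_smul, Submodule.Quotient.eq] at h1
    refine sub_eq_zero.mp ?_
    have h2 : ∀ z ∈ (K • ⊤ : Submodule B (Gr (M := M) J k)), z = 0 := fun z hz => by
      induction hz using Submodule.smul_induction_on' with
      | smul r hr z _ => exact hKt r z hr
      | add a _ b _ ha hb => rw [ha, hb, add_zero]
    exact h2 _ h1
  refine ⟨LinearEquiv.ofBijective Γ ⟨(injective_iff_map_eq_zero _).mpr fun z hz => ?_, fun z => ?_⟩⟩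
  · obtain ⟨w, rfl⟩ := hΦs z
    rw [hΓΦ] at hz
    have : γA w = 0 := hGbij (hz.trans (TensorProduct.tmul_zero _ (1 : T)).symm)
    rw [(injective_iff_map_eq_zero _).mp hinj w this, map_zero]
  · induction z with
    | zero => exact ⟨0, map_zero _⟩
    | add u v hu hv =>
      obtain ⟨a, rfl⟩ := hu
      obtain ⟨b, rfl⟩ := hv
      exact ⟨a + b, map_add _ _ _⟩
    | tmul t g =>
      obtain ⟨w, rfl⟩ := hγA g
      refine ⟨t • Φ w, ?_⟩
      rw [map_smul, hΓΦ, TensorProduct.smul_tmul', smul_eq_mul, mul_one]

set_option maxHeartbeats 2000000 in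
/-- Openness of the normally flat locus from a Noetherian stage. -/
theorem isOpen_locus {R A P B N M : Type u} [CommRing R] [CommRing A] [Algebra R A] [CommRing P]
    [Algebra R P] [Algebra.FiniteType R P] [CommRing B] [Algebra A B] [AddCommGroup N] [Module P N]
    [Module R N] [IsScalarTower R P N] [Module.Finite P N] [AddCommGroup M] [Module B M] [Module A M]
    [IsScalarTower A B M] [Module R M] [IsScalarTower R A M] {J : Ideal B} (φ : P →+* B)
    (hφ : ∀ r : R, φ (algebraMap R P r) = algebraMap A B (algebraMap R A r))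
    (hspan : Submodule.span A (Set.range φ) = ⊤) (ι : N →ₗ[R] M) (hι : IsBaseChange A ι)
    (hsemi : ∀ (p : P) (n : N), ι (p • n) = φ p • ι n) (JP : Ideal P) (hJP : JP.map φ = J)
    (T₀ : Type u) [CommRing T₀] [IsNoetherianRing T₀] [Algebra R T₀] [Algebra T₀ A] [IsScalarTower R T₀ A]
    (h : ∀ k, Module.Flat T₀ (T₀ ⊗[R] (N ⧸ (JP ^ k • ⊤ : Submodule P N)))) :
    IsOpen {q : PrimeSpectrum B | J ≤ q.asIdeal → ∀ k : ℕ,
      Module.Flat (B ⧸ J) ((B ⧸ J) ⊗[B] LocalizedModule q.asIdeal.primeCompl (Gr (M := M) J k))} := by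
  subst hJP
  let B' := P ⊗[R] T₀
  let M' := BC R P N T₀
  haveI : Algebra.FiniteType T₀ B' :=
    Algebra.FiniteType.equiv inferInstance (Algebra.TensorProduct.commRight R T₀ P)
  haveI : IsNoetherianRing B' := Algebra.FiniteType.isNoetherianRing T₀ B'
  letI : Algebra R B := ((algebraMap A B).comp (algebraMap R A)).toAlgebra
  let φa : P →ₐ[R] B := { φ with commutes' := hφ }
  let τa : T₀ →ₐ[R] B :=
    { (algebraMap A B).comp (algebraMap T₀ A) with
      commutes' := fun r => by
        change algebraMap A B (algebraMap T₀ A (algebraMap R T₀ r)) = _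
        rw [← IsScalarTower.algebraMap_apply R T₀ A]
        rfl }
  let ψ : B' →+* B := (Algebra.TensorProduct.lift φa τa fun x y => Commute.all _ _).toRingHom
  have hψP : ∀ p : P, ψ (algebraMap P B' p) = φ p := fun p => by
    change Algebra.TensorProduct.lift φa τa _ (p ⊗ₜ 1) = φ p
    rw [Algebra.TensorProduct.lift_tmul, map_one, mul_one]
    rfl
  have hψT : ∀ t : T₀, ψ (algebraMap T₀ B' t) = algebraMap A B (algebraMap T₀ A t) := fun t => by
    change Algebra.TensorProduct.lift φa τa _ ((1 : P) ⊗ₜ t) = _
    rw [Algebra.TensorProduct.lift_tmul, map_one, one_mul]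
    rfl
  let J' : Ideal B' := JP.map (algebraMap P B')
  have hJ : J'.map ψ = JP.map φ := by
    rw [Ideal.map_map]
    congr 1
    exact RingHom.ext hψP
  letI : Module B' M := Module.compHom M ψ
  letI : Module P M := Module.compHom M φ
  haveI : IsScalarTower P B' M := IsScalarTower.of_algebraMap_smul fun p x => by
    change ψ (algebraMap P B' p) • x = φ p • x
    rw [hψP]
  letI : Module T₀ M := Module.compHom M (algebraMap T₀ A)
  haveI : IsScalarTower T₀ A M := IsScalarTower.of_algebraMap_smul fun _ _ => rfl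
  haveI : IsScalarTower T₀ B' M := IsScalarTower.of_algebraMap_smul fun t x => by
    change ψ (algebraMap T₀ B' t) • x = algebraMap T₀ A t • x
    rw [hψT, algebraMap_smul]
  haveI : IsScalarTower R T₀ M := IsScalarTower.of_algebraMap_smul fun r x => by
    change algebraMap T₀ A (algebraMap R T₀ r) • x = r • x
    rw [← IsScalarTower.algebraMap_apply, algebraMap_smul]
  let ι₀ : N →ₗ[P] M := { toFun := ι, map_add' := map_add ι, map_smul' := hsemi }
  let ι' : M' →ₗ[B'] M := ι₀.liftBaseChange B'
  have hι' : IsBaseChange A (ι'.restrictScalars T₀) := by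
    refine IsBaseChange.of_comp (isBaseChange_toBC (R₀ := R) (B₀ := P) (M₀ := N) T₀) ?_
    have : (ι'.restrictScalars T₀).restrictScalars R ∘ₗ toBC R P N T₀ = ι := LinearMap.ext fun n => by
      change ι₀.liftBaseChange B' ((1 : B') ⊗ₜ[P] n) = ι n
      rw [LinearMap.liftBaseChange_tmul, one_smul]
      rfl
    rw [this]
    exact hι
  have hflat' : ∀ k, Module.Flat T₀ (M' ⧸ (J' ^ k • ⊤ : Submodule B' M')) := fun k => by
    haveI := h k
    obtain ⟨e⟩ := nonempty_equiv_quotient (A := T₀) (algebraMap P B') (toBC R P N T₀)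
      (isBaseChange_toBC (R₀ := R) (B₀ := P) (M₀ := N) T₀)
      (fun p n => by rw [toBC_apply, toBC_apply, algebraMap_smul, TensorProduct.tmul_smul]) JP k
    exact Module.Flat.of_linearEquiv e.symm
  have hspan' : Submodule.span A (Set.range ψ) = ⊤ := top_unique (hspan ▸ Submodule.span_mono (by
    rintro _ ⟨p, rfl⟩
    exact ⟨algebraMap P B' p, hψP p⟩))
  let T := B ⧸ JP.map φ
  letI : Algebra B' T := ((algebraMap B T).comp ψ).toAlgebra
  haveI : Module.Finite B' M' := inferInstance
  have e : ∀ k, Nonempty (T ⊗[B'] Gr (M := M') J' k ≃ₗ[T] T ⊗[B] Gr (M := M) (JP.map φ) k) := fun k =>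
    exists_equiv_gr ψ hspan' hψT (ι'.restrictScalars T₀) hι' (fun p n => ι'.map_smul p n) J' hflat' T
      (fun p => rfl) Ideal.Quotient.mk_surjective (JP.map φ) hJ
      (by rw [Ideal.Quotient.algebraMap_eq, Ideal.mk_ker]) k
  let O : Set (PrimeSpectrum T) :=
    {q | ∀ k, Module.Flat T (LocalizedModule q.asIdeal.primeCompl (T ⊗[B'] Gr (M := M') J' k))}
  have hO : IsOpen O := isOpen_setOf_flat_of_bound _ (genProj_gr J')
  have hemb := PrimeSpectrum.isClosedEmbedding_comap_of_surjective T (algebraMap B T) Ideal.Quotient.mk_surjective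
  obtain ⟨U, hU, hUO⟩ := hemb.isInducing.isOpen_iff.mp hO
  have key : ∀ qb : PrimeSpectrum T, qb ∈ O ↔ ∀ k, Module.Flat T
      (T ⊗[B] LocalizedModule (qb.asIdeal.comap (algebraMap B T)).primeCompl (Gr (M := M) (JP.map φ) k)) := by
    intro qb
    refine forall_congr' fun k => ?_
    obtain ⟨ek⟩ := e k
    have hS : Algebra.algebraMapSubmonoid T (qb.asIdeal.comap (algebraMap B T)).primeCompl =
        qb.asIdeal.primeCompl := by
      ext x
      refine ⟨?_, fun hx => ?_⟩
      · rintro ⟨s, hs, rfl⟩
        exact hs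
      · obtain ⟨s, rfl⟩ := Ideal.Quotient.mk_surjective x
        exact ⟨s, hx, rfl⟩
    haveI : IsLocalizedModule qb.asIdeal.primeCompl
        ((LocalizedModule.mkLinearMap (qb.asIdeal.comap (algebraMap B T)).primeCompl
          (Gr (M := M) (JP.map φ) k)).baseChange T) :=
      hS ▸ isLocalizedModule_baseChange (T := T) _
    haveI : IsLocalizedModule qb.asIdeal.primeCompl
        (((LocalizedModule.mkLinearMap (qb.asIdeal.comap (algebraMap B T)).primeCompl
          (Gr (M := M) (JP.map φ) k)).baseChange T) ∘ₗ ek.toLinearMap) :=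
      IsLocalizedModule.of_linearEquiv_right _ _ ek
    exact Module.Flat.equiv_iff (IsLocalizedModule.iso qb.asIdeal.primeCompl
      (((LocalizedModule.mkLinearMap (qb.asIdeal.comap (algebraMap B T)).primeCompl
        (Gr (M := M) (JP.map φ) k)).baseChange T) ∘ₗ ek.toLinearMap))
  have hset : {q : PrimeSpectrum B | JP.map φ ≤ q.asIdeal → ∀ k : ℕ,
      Module.Flat T (T ⊗[B] LocalizedModule q.asIdeal.primeCompl (Gr (M := M) (JP.map φ) k))} =
      (PrimeSpectrum.zeroLocus (JP.map φ : Set B))ᶜ ∪ U := by
    ext q
    by_cases hq : JP.map φ ≤ q.asIdeal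
    · have hqr : q ∈ Set.range (PrimeSpectrum.comap (algebraMap B T)) := by
        rw [range_comap_of_surjective T (algebraMap B T) Ideal.Quotient.mk_surjective]
        rw [show RingHom.ker (algebraMap B T) = JP.map φ from Ideal.mk_ker]
        exact hq
      obtain ⟨qb, rfl⟩ := hqr
      simp only [Set.mem_setOf_eq, hq, true_implies, Set.mem_union, Set.mem_compl_iff,
        PrimeSpectrum.mem_zeroLocus, SetLike.coe_subset_coe, not_true_eq_false, false_or]
      rw [← Set.mem_preimage, hUO, key qb]
      rfl
    · simp [Set.mem_setOf_eq, hq]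
  exact hset ▸ ((PrimeSpectrum.isClosed_zeroLocus _).isOpen_compl.union hU)

end Groth.Agent.H06EGA11b.NormalFlatOpen
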