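import Mathlib
import Groth.Agent.H05EGA4.FlatRegular
import Groth.Agent.H8Props.FlatLocus.Module

/-!
Sequences regular on the fibres of a flat finite module: openness of the locus (EGA IV 11.3.8).
-/

set_option autoImplicit false
set_option linter.style.haveILetI false
set_option backward.isDefEq.respectTransparency false

universe u

open IsLocalRing TensorProduct RingTheory.Sequence
open scoped Pointwise

namespace Groth.Agent.H06EGA11b.RegularLocus

/-- If `f` is regular on `M` with quotient flat over `A`, then it is regular on `M/IM`. -/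
theorem isSMulRegular_quotient {A B M : Type u} [CommRing A] [CommRing B] [Algebra A B]
    [AddCommGroup M] [Module B M] [Module A M] [IsScalarTower A B M] (I : Ideal A) (f : B)
    (hreg : IsSMulRegular M f) [Module.Flat A (QuotSMulTop f M)] :
    IsSMulRegular (M ⧸ (I.map (algebraMap A B) • ⊤ : Submodule B M)) f := by
  have hI : ∀ x : M, x ∈ (I.map (algebraMap A B) • ⊤ : Submodule B M) ↔ x ∈ (I • ⊤ : Submodule A M) :=
    fun x => by
      rw [← Submodule.restrictScalars_mem A, Submodule.restrictScalars_map_smul_eq,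
        Submodule.restrictScalars_top]
  let u : M →ₗ[A] M := (LinearMap.lsmul B M f).restrictScalars A
  let v : M →ₗ[A] QuotSMulTop f M := (Submodule.mkQ _).restrictScalars A
  have hex : Function.Exact u v := fun y => by
    show Submodule.Quotient.mk y = 0 ↔ _
    rw [Submodule.Quotient.mk_eq_zero, Submodule.mem_smul_pointwise_iff_exists]
    exact ⟨fun ⟨z, _, hz⟩ => ⟨z, hz⟩, fun ⟨z, hz⟩ => ⟨z, trivial, hz⟩⟩
  have hvs : Function.Surjective v := fun y => Submodule.Quotient.mk_surjective _ y
  let μ (N : Type u) [AddCommGroup N] [Module A N] : I ⊗[A] N →ₗ[A] N :=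
    (TensorProduct.lid A N).toLinearMap ∘ₗ I.subtype.rTensor N
  have hμ : ∀ (N N' : Type u) [AddCommGroup N] [Module A N] [AddCommGroup N'] [Module A N']
      (w : N →ₗ[A] N') (z : I ⊗[A] N), μ N' (w.lTensor I z) = w (μ N z) := by
    intro N N' _ _ _ _ w z
    induction z with
    | zero => simp
    | tmul a x => simp [μ]
    | add a b ha hb => simp only [map_add, ha, hb]
  have hμr : ∀ x : M, x ∈ (I • ⊤ : Submodule A M) → ∃ z, μ M z = x := fun x hx => by
    induction hx using Submodule.smul_induction_on' with
    | smul a ha y _ => exact ⟨⟨a, ha⟩ ⊗ₜ y, by simp [μ]⟩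
    | add y _ y' _ h h' =>
      obtain ⟨z, rfl⟩ := h
      obtain ⟨z', rfl⟩ := h'
      exact ⟨z + z', map_add _ _ _⟩
  have hμm : ∀ z, μ M z ∈ (I • ⊤ : Submodule A M) := fun z => by
    induction z with
    | zero => simp
    | tmul a x => simpa [μ] using Submodule.smul_mem_smul a.2 (Submodule.mem_top (x := x))
    | add a b ha hb => rw [map_add]; exact add_mem ha hb
  refine isSMulRegular_iff_right_eq_zero_of_smul.mpr fun z hz => ?_
  obtain ⟨x, rfl⟩ := Submodule.Quotient.mk_surjective _ z
  rw [← Submodule.Quotient.mk_smul, Submodule.Quotient.mk_eq_zero, hI] at hz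
  rw [Submodule.Quotient.mk_eq_zero, hI]
  obtain ⟨w, hw⟩ := hμr _ hz
  have hinj : Function.Injective (μ (QuotSMulTop f M)) :=
    (TensorProduct.lid A _).injective.comp
      (Module.Flat.rTensor_preserves_injective_linearMap I.subtype I.injective_subtype)
  have h0 : v.lTensor I w = 0 := hinj (by
    rw [hμ, hw, map_zero]
    exact (hex (f • x)).mpr ⟨x, rfl⟩)
  obtain ⟨w', rfl⟩ := (lTensor_exact I hex hvs w).mp h0
  rw [hμ] at hw
  rw [← hreg hw]
  exact hμm w'

variable {A B : Type u} [CommRing A] [CommRing B] [IsLocalRing A] [Algebra A B]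

/-- A regular sequence with flat quotients is regular on the closed fibre. -/
theorem isWeaklyRegular_fibre (fs : List B) : ∀ (M : Type u) [AddCommGroup M] [Module B M]
    [Module A M] [IsScalarTower A B M], IsWeaklyRegular M fs →
    (∀ i < fs.length, Module.Flat A (M ⧸ (Ideal.ofList (fs.take (i + 1)) • (⊤ : Submodule B M)))) →
    IsWeaklyRegular (M ⧸ ((maximalIdeal A).map (algebraMap A B) • (⊤ : Submodule B M))) fs := by
  induction fs with
  | nil => intro M _ _ _ _ _ _; exact .nil B _
  | cons f fs ih =>
    intro M _ _ _ _ hreg hfl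
    rw [isWeaklyRegular_cons_iff] at hreg ⊢
    have e : ∀ i, Module.Flat A (M ⧸ (Ideal.ofList ((f :: fs).take (i + 1)) • (⊤ : Submodule B M))) →
        Module.Flat A (QuotSMulTop f M ⧸ (Ideal.ofList (fs.take i) • (⊤ : Submodule B (QuotSMulTop f M)))) :=
      fun i h => by
        rw [List.take_succ_cons] at h
        exact Module.Flat.of_linearEquiv
          ((Submodule.quotOfListConsSMulTopEquivQuotSMulTopInner M f (fs.take i)).restrictScalars A).symm
    haveI : Module.Flat A (QuotSMulTop f M) := by
      have := e 0 (hfl 0 (by simp))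
      exact Module.Flat.of_linearEquiv
        ((Submodule.quotEquivOfEqBot (R := B) (Ideal.ofList (fs.take 0) • ⊤ : Submodule B
          (QuotSMulTop f M)) (by simp)).restrictScalars A).symm
    refine ⟨isSMulRegular_quotient _ f hreg.1, ?_⟩
    refine ((H05EGA4.quotSMulTopSwap f ((maximalIdeal A).map (algebraMap A B))).isWeaklyRegular_congr fs).mp ?_
    exact ih (QuotSMulTop f M) hreg.2 fun i hi => e (i + 1) (hfl (i + 1) (by simpa using hi))

variable [IsLocalRing B] [IsNoetherianRing A] [IsNoetherianRing B] [IsLocalHom (algebraMap A B)]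

/-- Criterion for regularity on the closed fibre. -/
theorem isWeaklyRegular_fibre_iff (M : Type u) [AddCommGroup M] [Module B M] [Module A M]
    [IsScalarTower A B M] [Module.Finite B M] [Module.Flat A M] (fs : List B) :
    IsWeaklyRegular (M ⧸ ((maximalIdeal A).map (algebraMap A B) • (⊤ : Submodule B M))) fs ↔
      ∀ i : Fin fs.length,
        IsSMulRegular (M ⧸ (Ideal.ofList (fs.take i) • (⊤ : Submodule B M))) fs[i] ∧
        Module.Flat A (M ⧸ (Ideal.ofList (fs.take (i + 1)) • (⊤ : Submodule B M))) := by
  refine ⟨fun h => ?_, fun h => ?_⟩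
  · obtain ⟨h1, h2⟩ := H05EGA4.isWeaklyRegular_and_flat_of_fibre fs M h
    exact fun i => ⟨h1.regular_mod_prev i i.2, h2 (i + 1) i.2⟩
  · exact isWeaklyRegular_fibre fs M ⟨fun i hi => (h ⟨i, hi⟩).1⟩ fun i hi => (h ⟨i, hi⟩).2

omit [IsLocalRing A] [IsLocalRing B] [IsNoetherianRing A] [IsNoetherianRing B]
  [IsLocalHom (algebraMap A B)]

/-- The locus where an element is regular on a finite module is open. -/
theorem isOpen_setOf_isSMulRegular [IsNoetherianRing B] (N : Type u) [AddCommGroup N] [Module B N]
    [Module.Finite B N] (g : B) :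
    IsOpen {q : PrimeSpectrum B | IsSMulRegular (LocalizedModule q.asIdeal.primeCompl N) g} := by
  let K : Submodule B N := LinearMap.ker (LinearMap.lsmul B N g)
  have : {q : PrimeSpectrum B | IsSMulRegular (LocalizedModule q.asIdeal.primeCompl N) g} =
      (Module.support B K)ᶜ := by
    ext q
    rw [Set.mem_compl_iff, Module.notMem_support_iff', Set.mem_setOf_eq,
      isSMulRegular_iff_right_eq_zero_of_smul]
    refine ⟨fun h m => ?_, fun h z hz => ?_⟩
    · have hm : g • (m : N) = 0 := m.2
      have h1 := h (LocalizedModule.mk (m : N) 1) (by rw [LocalizedModule.smul'_mk, hm, LocalizedModule.zero_mk])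
      rw [← LocalizedModule.zero_mk (S := q.asIdeal.primeCompl) 1, LocalizedModule.mk_eq] at h1
      obtain ⟨r, hr⟩ := h1
      exact ⟨r, r.2, Subtype.ext (by simpa [Submonoid.smul_def] using hr)⟩
    · induction z using LocalizedModule.induction_on with
      | h n s =>
        rw [LocalizedModule.smul'_mk, ← LocalizedModule.zero_mk (S := q.asIdeal.primeCompl) 1,
          LocalizedModule.mk_eq] at hz
        obtain ⟨r, hr⟩ := hz
        have hn : (r : B) • n ∈ K := by
          rw [LinearMap.mem_ker, LinearMap.lsmul_apply, smul_comm]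
          simpa [Submonoid.smul_def] using hr
        obtain ⟨t, ht, htn⟩ := h ⟨_, hn⟩
        rw [← LocalizedModule.zero_mk (S := q.asIdeal.primeCompl) 1, LocalizedModule.mk_eq]
        refine ⟨⟨t, ht⟩ * r, ?_⟩
        have := congrArg Subtype.val htn
        simpa [Submonoid.smul_def, mul_smul] using this
  rw [this, Module.support_eq_zeroLocus]
  exact (PrimeSpectrum.isClosed_zeroLocus _).isOpen_compl

/-- The locus of primes where the successive regularity and flatness conditions hold. -/
def locus (A : Type u) {B : Type u} [CommRing A] [CommRing B] [Algebra A B] (M : Type u)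
    [AddCommGroup M] [Module B M] [Module A M] [IsScalarTower A B M] (fs : List B) :
    Set (PrimeSpectrum B) :=
  {q | ∀ i : Fin fs.length,
    IsSMulRegular (LocalizedModule q.asIdeal.primeCompl
      (M ⧸ (Ideal.ofList (fs.take i) • (⊤ : Submodule B M)))) fs[i] ∧
    Module.Flat A (LocalizedModule q.asIdeal.primeCompl
      (M ⧸ (Ideal.ofList (fs.take (i + 1)) • (⊤ : Submodule B M))))}

theorem isOpen_locus [IsNoetherianRing A] [Algebra.FiniteType A B] (M : Type u) [AddCommGroup M]
    [Module B M] [Module A M] [IsScalarTower A B M] [Module.Finite B M] (fs : List B) :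
    IsOpen (locus A M fs) := by
  haveI : IsNoetherianRing B := Algebra.FiniteType.isNoetherianRing A B
  haveI : Algebra.FinitePresentation A B := Algebra.FinitePresentation.of_finiteType.mp inferInstance
  simp only [locus, Set.setOf_forall, Set.setOf_and]
  exact isOpen_iInter_of_finite fun i => (isOpen_setOf_isSMulRegular _ _).inter
    (haveI := Module.finitePresentation_of_finite B
      (M ⧸ (Ideal.ofList (fs.take (i + 1)) • (⊤ : Submodule B M)))
    H8Props.FlatLocus.isOpen_setOf_flat_localizedModule A B _)

/-- The fibre condition at a prime, read in any model of the localizations. -/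
theorem mem_locus_iff (M : Type u) [AddCommGroup M] [Module B M] [Module A M] [IsScalarTower A B M]
    [IsNoetherianRing A] [IsNoetherianRing B] [Module.Finite B M]
    (q : PrimeSpectrum B) (p : Ideal A) [p.IsPrime]
    {Ap Bq M' : Type u} [CommRing Ap] [CommRing Bq] [Algebra A Ap] [IsLocalization.AtPrime Ap p]
    [Algebra B Bq] [IsLocalization.AtPrime Bq q.asIdeal] [IsLocalRing Ap] [IsLocalRing Bq]
    [Algebra Ap Bq] [IsLocalHom (algebraMap Ap Bq)]
    [AddCommGroup M'] [Module Bq M'] [Module B M'] [IsScalarTower B Bq M']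
    [Module Ap M'] [IsScalarTower Ap Bq M'] [Module A M'] [IsScalarTower A Ap M']
    [IsScalarTower A B M'] [Algebra A Bq] [IsScalarTower A Bq M'] (l : M →ₗ[B] M') [IsLocalizedModule q.asIdeal.primeCompl l]
    (hflat : Module.Flat Ap M') (fs : List B) :
    IsWeaklyRegular (M' ⧸ ((maximalIdeal Ap).map (algebraMap Ap Bq) • (⊤ : Submodule Bq M')))
        (fs.map (algebraMap B Bq)) ↔ q ∈ locus A M fs := by
  haveI : IsNoetherianRing Ap := IsLocalization.isNoetherianRing p.primeCompl Ap inferInstance
  haveI : IsNoetherianRing Bq := IsLocalization.isNoetherianRing q.asIdeal.primeCompl Bq inferInstance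
  haveI : Module.Finite Bq M' := Module.Finite.of_isLocalizedModule q.asIdeal.primeCompl l
  rw [isWeaklyRegular_fibre_iff M' (fs.map (algebraMap B Bq))]
  have hN : ∀ k, ((Ideal.ofList (fs.take k) • (⊤ : Submodule B M)).localized' Bq q.asIdeal.primeCompl l) =
      (Ideal.ofList ((fs.map (algebraMap B Bq)).take k) • ⊤ : Submodule Bq M') := fun k => by
    rw [Submodule.localized'_smul, Submodule.localized'_top, Ideal.localized'_eq_map, Ideal.map_ofList,
      List.map_take]
  let e : ∀ k, LocalizedModule q.asIdeal.primeCompl (M ⧸ (Ideal.ofList (fs.take k) • (⊤ : Submodule B M)))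
      ≃ₗ[B] M' ⧸ (Ideal.ofList ((fs.map (algebraMap B Bq)).take k) • ⊤ : Submodule Bq M') := fun k =>
    (IsLocalizedModule.iso q.asIdeal.primeCompl
      ((Ideal.ofList (fs.take k) • (⊤ : Submodule B M)).toLocalizedQuotient' Bq q.asIdeal.primeCompl l)).trans
      ((Submodule.quotEquivOfEq _ _ (hN k)).restrictScalars B)
  have hr : ∀ k (b : B), IsSMulRegular (LocalizedModule q.asIdeal.primeCompl
      (M ⧸ (Ideal.ofList (fs.take k) • (⊤ : Submodule B M)))) b ↔
      IsSMulRegular (M' ⧸ (Ideal.ofList ((fs.map (algebraMap B Bq)).take k) • ⊤ : Submodule Bq M'))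
        (algebraMap B Bq b) := fun k b => by
    rw [(e k).isSMulRegular_congr b]
    simp only [IsSMulRegular, algebraMap_smul]
  have hf : ∀ k, Module.Flat A (LocalizedModule q.asIdeal.primeCompl
      (M ⧸ (Ideal.ofList (fs.take k) • (⊤ : Submodule B M)))) ↔
      Module.Flat Ap (M' ⧸ (Ideal.ofList ((fs.map (algebraMap B Bq)).take k) • ⊤ : Submodule Bq M')) :=
    fun k => (Module.Flat.equiv_iff ((e k).restrictScalars A)).trans
      (Module.flat_iff_of_isLocalization Ap p.primeCompl _).symm
  constructor
  · intro h i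
    have := h ⟨i, by simp⟩
    exact ⟨(hr i _).mpr (by simpa using this.1), (hf _).mpr this.2⟩
  · intro h i
    have := h ⟨i, by simpa using i.2⟩
    exact ⟨by simpa using (hr i _).mp this.1, (hf _).mp this.2⟩

end Groth.Agent.H06EGA11b.RegularLocus
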